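import Cfsg.Agent.Mrg.Omega.NO3S.SOne.Good
import Cfsg.Agent.Omega.NO3S.SOne.PhiL

section


/-!
# GammaFF, (S1) (#21629), (iii): bad lines, `q₀ ≥ 4`

`h ∈ N_P(S)`, `L₂ = L₁^h`, `W₂ = W^h`, `W` centralises `L₂`, `W₂` centralises `L₁`, `g ∈ P₁` generic: `L₂^g ≤ E`.
-/

set_option autoImplicit false
set_option linter.unusedSectionVars false

namespace Cfsg.Agent.Omega.NO3S.SOne

open Subgroup Cfsg Cfsg.Agent.ZN Cfsg.Agent.Omega.MinPar
open Cfsg.Agent.Omega.NOne.Flat (EE NN Cos card_mul_relIndex' conj_eq_of_norm conj_centralizer)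
open Cfsg.Agent.Omega.NOne.NearFF (c c_def)
open Cfsg.Agent.Omega.NoFF.Basic (conj_conj mem_conj conj_le_iff conj_le_centralizer comm_symm)
open Cfsg.Agent.Omega.FFThm (ElemM OffM NoOverM relIndex_le_iff)
open Cfsg.Agent.Omega.NOThreeL.NF (MinOffM)
open Cfsg.Agent.Omega.NO3S.Pas (Key)
open scoped Pointwise

universe u

variable {G : Type u} [Group G] [Finite G]

/-- A semiregular offender is a minimal offender. -/
theorem minOff_of_semi {L A T H : Subgroup G} (no : NoOverM L H) (hAT : A ≤ T) (hTH : T ≤ H) (off : OffM L A)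
    (semi : ∀ r ∈ L, r ∉ centralizer (A : Set G) → ∀ a ∈ A, a * r = r * a → a ∈ centralizer (L : Set G)) :
    MinOffM L T A where
  le := hAT
  off := off
  min := fun B' hB hoff => by
    have h1 := relIndex_le_iff.1 (no A (hAT.trans hTH) off.toElemM)
    have h2 := relIndex_le_iff.1 hoff.le
    have h3 : centralizer (B' : Set G) ⊓ L ≤ centralizer (A : Set G) := by
      rintro r ⟨hrB, hrL⟩
      by_contra hr
      refine hoff.ne fun b hb => semi r hrL hr b (hB hb) ?_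
      exact mem_centralizer_iff.1 hrB b hb
    have h4 : (centralizer (A : Set G)).relIndex L ≤ (centralizer (B' : Set G)).relIndex L := by
      rw [← inf_relIndex_right (centralizer (B' : Set G)) L]
      exact relIndex_le_of_le_left h3 index_ne_zero_of_finite
    exact (h1.trans h4).trans h2


theorem conj_le_normalizer {K L : Subgroup G} (h : K ≤ normalizer (L : Set G)) (g : G) :
    MulAut.conj g • K ≤ normalizer ((MulAut.conj g • L : Subgroup G) : Set G) := by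
  refine le_normalizer_of fun k hk x hx => ?_
  rw [mem_conj] at hk hx ⊢
  have e : g⁻¹ * (k * x * k⁻¹) * g = g⁻¹ * k * g * (g⁻¹ * x * g) * (g⁻¹ * k * g)⁻¹ := by group
  rw [e]
  exact (mem_normalizer_iff.1 (h hk) _).1 hx

variable {S : Sylow 2 G} {V F B P P₁ : Subgroup G}

/-- `⁅L₁^u, W^t⁆ = ⁅L₁, W⁆^t` if `W^t ≤ S^u` moves `L₁^u`. -/
theorem SO.comm_line (so : SO S V F B P P₁) (hk : Key V F B) {t u : G} (ht : t ∈ P ⊔ P₁) (hu : u ∈ P ⊔ P₁)
    (hle : MulAut.conj t • NOne.Flat.WW V F ≤ MulAut.conj u • (S : Subgroup G))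
    (hm : ¬ MulAut.conj t • NOne.Flat.WW V F ≤
      centralizer ((MulAut.conj u • zl (S : Subgroup G) P₁ : Subgroup G) : Set G)) :
    ⁅MulAut.conj u • zl (S : Subgroup G) P₁, MulAut.conj t • NOne.Flat.WW V F⁆ =
      MulAut.conj t • ⁅zl (S : Subgroup G) P₁, NOne.Flat.WW V F⁆ := by
  have htu : t⁻¹ * u ∈ P ⊔ P₁ := mul_mem (inv_mem ht) hu
  have h1 : NOne.Flat.WW V F ≤ MulAut.conj (t⁻¹ * u) • (S : Subgroup G) := by
    rw [← conj_conj, ← conj_le_iff']
    exact hle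
  have h2 := so.line_le_I htu h1
  have h3 : ¬ NOne.Flat.WW V F ≤ centralizer ((MulAut.conj (t⁻¹ * u) • zl (S : Subgroup G) P₁ : Subgroup G) : Set G) := by
    intro h4
    apply hm
    have h5 := conj_le_centralizer (g := t) h4
    rwa [conj_conj, mul_inv_cancel_left] at h5
  have h4 := so.comm_eq hk h2 so.L_le_I h3 so.mov
  rw [← h4, conj_commutator, conj_conj, mul_inv_cancel_left]

theorem SO.S_norm_line (so : SO S V F B P P₁) {h : G} (hN : h ∈ normalizer ((S : Subgroup G) : Set G)) :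
    (S : Subgroup G) ≤ normalizer ((MulAut.conj h • zl (S : Subgroup G) P₁ : Subgroup G) : Set G) := by
  have h1 := conj_le_normalizer (so.SP₁.trans so.PL) h
  rwa [conj_eq_of_norm hN] at h1

/-- **(iii)** -/
theorem SO.line_good (so : SO S V F B P P₁) (hk : Key V F B) {q : ℕ} (nt : NT (S : Subgroup G) P₁ q) {h g : G} (hh : h ∈ P)
    (hN : h ∈ normalizer ((S : Subgroup G) : Set G)) (hg : Gen (S : Subgroup G) P₁ (NOne.Flat.WW V F) g)
    (h1 : NOne.Flat.WW V F ≤ centralizer ((MulAut.conj h • zl (S : Subgroup G) P₁ : Subgroup G) : Set G))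
    (h2 : MulAut.conj h • NOne.Flat.WW V F ≤ centralizer (zl (S : Subgroup G) P₁ : Set G)) :
    MulAut.conj (g * h) • zl (S : Subgroup G) P₁ ≤ EE V F := by
  by_contra hbad
  set W : Subgroup G := NOne.Flat.WW V F with hW
  set L : Subgroup G := zl (S : Subgroup G) P₁ with hL
  have hS : MulAut.conj h • (S : Subgroup G) = S := conj_eq_of_norm hN
  have hhY : h ∈ P ⊔ P₁ := (le_sup_left : P ≤ P ⊔ P₁) hh
  have hgY : g ∈ P ⊔ P₁ := (le_sup_right : P₁ ≤ P ⊔ P₁) hg.mem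
  have huY : g * h ∈ P ⊔ P₁ := mul_mem hgY hhY
  have hWY : W ≤ P ⊔ P₁ := so.WS.trans so.SY
  have hPL : P₁ ≤ normalizer (L : Set G) := so.PL
  have hLV : L ≤ V := so.L_le_V
  have hT : MulAut.conj (g * h) • (S : Subgroup G) = MulAut.conj g • (S : Subgroup G) := by rw [← conj_conj, hS]
  obtain ⟨u, hu⟩ : ∃ u, u = g * h := ⟨_, rfl⟩
  have hd : MulAut.conj u • L = MulAut.conj g • (MulAut.conj h • L) := by rw [hu, conj_conj]
  rw [← hu] at hbad huY hT
  obtain ⟨U, hU⟩ : ∃ U, U = MulAut.conj u • L := ⟨_, rfl⟩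
  rw [← hU] at hbad hd
  have hUV : U ≤ V := by rw [hU]; exact so.line_le_V huY
  have hTU : MulAut.conj u • (S : Subgroup G) ≤ normalizer (U : Set G) := by
    rw [hU]; exact conj_le_normalizer (so.SP₁.trans hPL) u
  have hBT : B ≤ MulAut.conj u • (S : Subgroup G) := by rw [hT]; exact so.BS g hg.mem
  have hBU : B ≤ normalizer (U : Set G) := hBT.trans hTU
  have hI : ¬ V ⊓ B ≤ F := fun hle => so.mov (by
    intro w hw
    rw [mem_centralizer_iff]
    exact fun l hl => NOne.Flat.Hyp.F_comm (hle (so.L_le_I hl)) (NOne.Flat.Hyp.W_le_X hw))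
  have hQc : o2 P₁ ≤ centralizer (L : Set G) := by
    rw [← so.o2_eq]; exact inf_le_right
  have hQS : o2 P₁ ≤ (S : Subgroup G) := so.hP₁.isLoc.o2_le S
  have hQn : ∀ p ∈ P₁, MulAut.conj p • o2 P₁ = o2 P₁ := fun p hp =>
    conj_eq_of_norm (MinSimple.VModule.le_normalizer_o2 P₁ hp)
  have hQT : o2 P₁ ≤ MulAut.conj u • (S : Subgroup G) := by
    rw [hT, ← hQn g hg.mem]
    exact conj_le_iff.2 hQS
  have hρL : ⁅L, W⁆ ≤ L := by
    rw [commutator_le]
    intro l hl t ht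
    rw [commutatorElement_def, ← c_def]
    exact NOThreeL.Low.Key.c_mem_left hl (hPL (so.SP₁ (so.WS ht)))
  -- *dis*
  have hdis : U ⊓ ⁅L, W⁆ = ⊥ := by
    rw [eq_bot_iff]
    rintro x ⟨hxU, hxρ⟩
    rw [mem_bot]
    have hx1 : g⁻¹ * x * g ∈ MulAut.conj h • L := by
      rw [hd] at hxU
      exact mem_conj.1 hxU
    have hx2 : g⁻¹ * x * g ∈ L := by
      have h3 := (mem_normalizer_iff.1 (hPL (inv_mem hg.mem)) x).1 (hρL hxρ)
      rwa [inv_inv] at h3
    have e : g * (g⁻¹ * x * g) * g⁻¹ = x := by group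
    have h3 := hg.dis (g⁻¹ * x * g) hx2 (fun s hs => by
      have h4 := conj_le_centralizer (g := s) h1
      rw [conj_eq_of_norm (so.S_norm_line hN hs)] at h4
      exact h4.trans (centralizer_le (Set.singleton_subset_iff.2 hx1))) (by rw [e]; exact hxρ)
    rw [← e, h3, mul_one, mul_inv_cancel]
  have hEB : ∀ e ∈ EE V F, ∀ b ∈ B, c e b ∈ ⁅L, W⁆ := fun e he b hb =>
    hk.mem_EB so.toBH so.L_le_I so.mov he hb
  obtain ⟨o1, o2', o3, o4⟩ := Pas.off_d so.toBH hUV hbad hBU hI hEB hdis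
  -- `B^(u⁻¹)`
  have hB'S : MulAut.conj u⁻¹ • B ≤ (S : Subgroup G) := le_conj_iff.1 hBT
  have hUL : MulAut.conj u⁻¹ • U = L := by rw [hU, conj_inv_smul]
  have offU : OffM U B := ⟨Pas.elem_d so.toBH hUV, o1, relIndex_le_iff.2 (o2'.trans (o3.trans o4))⟩
  have offL : OffM L (MulAut.conj u⁻¹ • B) := by
    have h3 := offM_conj offU u⁻¹
    rwa [hUL] at h3
  have e1 : (centralizer (L : Set G)).relIndex (MulAut.conj u⁻¹ • B : Subgroup G) =
      (centralizer (U : Set G)).relIndex B := by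
    rw [← hUL, ← conj_centralizer, relIndex_pointwise_smul]
  have e2 : (centralizer ((MulAut.conj u⁻¹ • B : Subgroup G) : Set G)).relIndex L =
      (centralizer (B : Set G)).relIndex U := by
    rw [← hUL, ← conj_centralizer, relIndex_pointwise_smul]
  have no : (centralizer (U : Set G)).relIndex B ≤ (centralizer (B : Set G)).relIndex U := by
    rw [← e1, ← e2]
    exact relIndex_le_iff.1 (nt.no _ (hB'S.trans so.SP₁) offL.toElemM)
  obtain ⟨b₀, hb₀, hb₀N⟩ := so.toBH.exists_not_mem_NN hI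
  have hCB : ∀ x ∈ U, (x ∈ centralizer (B : Set G) ↔ x ∈ EE V F) := by
    intro x hx
    constructor
    · intro hxB
      by_contra hxE
      refine hb₀N (so.toBH.mem_NN_of_c (hUV hx) hxE hb₀ ?_)
      rw [NOThreeL.Low.Key.c_eq_one' (mem_centralizer_iff.1 hxB b₀ hb₀).symm]
      exact one_mem _
    · intro hxE
      rw [mem_centralizer_iff]
      intro b hb
      have h3 : c x b ∈ U ⊓ ⁅L, W⁆ := ⟨NOThreeL.Low.Key.c_mem_left hx (hBU hb), hEB x hxE b hb⟩
      rw [hdis, mem_bot] at h3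
      exact (NOThreeL.Low.Key.comm_of_c h3).symm
  obtain ⟨v₀, hv₀, hv₀E⟩ := SetLike.not_le_iff_exists.1 hbad
  have hNN : NN V F ⊓ B ≤ centralizer (U : Set G) ⊓ B := by
    have h3 : centralizer (U : Set G) ⊓ B ≤ NN V F ⊓ B := by
      rintro b ⟨hb1, hb2⟩
      refine ⟨so.toBH.mem_NN_of_c (hUV hv₀) hv₀E hb2 ?_, hb2⟩
      rw [NOThreeL.Low.Key.c_eq_one' (mem_centralizer_iff.1 hb1 v₀ hv₀)]
      exact one_mem _
    have h4 : (centralizer (U : Set G) ⊓ B).relIndex B = (NN V F ⊓ B).relIndex B := by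
      rw [inf_relIndex_right, inf_relIndex_right, so.toBH.relIndex_B]
      exact le_antisymm (no.trans (o2'.trans o3)) o4
    have h5 := card_mul_relIndex' (inf_le_right : centralizer (U : Set G) ⊓ B ≤ B)
    have h6 := card_mul_relIndex' (inf_le_right : NN V F ⊓ B ≤ B)
    rw [h4, ← h6] at h5
    have h7 : 0 < (NN V F ⊓ B).relIndex B := Nat.pos_of_ne_zero index_ne_zero_of_finite
    exact (Subgroup.eq_of_le_of_card_ge h3 (Nat.eq_of_mul_eq_mul_right h7 h5).ge).ge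
  have hmB : MinOffM L (S : Subgroup G) (MulAut.conj u⁻¹ • B) := by
    refine minOff_of_semi nt.no hB'S so.SP₁ offL fun r hr hrc b hb hbr => ?_
    have hr' : u * r * u⁻¹ ∈ U := by rw [hU]; exact NOne.Frame.conj_mem hr
    have hb' : u * b * u⁻¹ ∈ B := by
      have h3 := mem_conj.1 hb
      rwa [inv_inv] at h3
    have hrE : u * r * u⁻¹ ∉ EE V F := by
      rw [← hCB _ hr']
      intro h3
      apply hrc
      rw [← conj_centralizer, mem_conj, inv_inv]
      exact h3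
    have h3 : c (u * r * u⁻¹) (u * b * u⁻¹) = 1 := by
      have e : c (u * r * u⁻¹) (u * b * u⁻¹) = u * c r b * u⁻¹ := by rw [c_def, c_def]; group
      rw [e, NOThreeL.Low.Key.c_eq_one' hbr.symm, mul_one, mul_inv_cancel]
    have h4 := so.toBH.mem_NN_of_c (hUV hr') hrE hb' (by rw [h3]; exact one_mem _)
    have h5 : u * b * u⁻¹ ∈ centralizer (U : Set G) := (hNN ⟨h4, hb'⟩).1
    rw [hU, ← conj_centralizer, mem_conj] at h5
    have e : u⁻¹ * (u * b * u⁻¹) * u = b := by group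
    rwa [e] at h5
  have hmW : MinOffM L (S : Subgroup G) W := nt.min (so.ka_one hk)
  have hB_idx : (centralizer (U : Set G)).relIndex B = q := by rw [← e1]; exact nt.idx _ hmB
  have hU_idx : q ≤ (EE V F).relIndex U := by
    rw [← nt.idx' _ hmB, e2]
    exact o2'
  obtain ⟨s, hs, hcls⟩ := nt.cls W _ hmW hmB
  obtain ⟨W', hW'⟩ : ∃ W', W' = MulAut.conj (u * s) • W := ⟨_, rfl⟩
  have husY : u * s ∈ P ⊔ P₁ := mul_mem huY (so.SY hs)
  -- `W' ≤ Q`
  have hW'Q : W' ≤ o2 P₁ := by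
    have h3 : MulAut.conj h • W ≤ o2 P₁ := by
      rw [← so.o2_eq]
      refine le_inf ?_ h2
      rw [← hS]
      exact conj_le_iff.2 so.WS
    have hs' : h * s * h⁻¹ ∈ (S : Subgroup G) := by
      have h4 : h * s * h⁻¹ ∈ MulAut.conj h • (S : Subgroup G) := NOne.Frame.conj_mem hs
      rwa [hS] at h4
    have hp : g * (h * s * h⁻¹) ∈ P₁ := mul_mem hg.mem (so.SP₁ hs')
    have e : u * s = g * (h * s * h⁻¹) * h := by rw [hu]; group
    rw [hW', e, ← conj_conj, ← hQn _ hp]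
    exact conj_le_iff.2 h3
  have hcQ : MulAut.conj u • o2 P₁ ≤ centralizer (U : Set G) := by
    rw [hU]; exact conj_le_centralizer hQc
  have hsup : B ⊔ MulAut.conj u • o2 P₁ = W' ⊔ MulAut.conj u • o2 P₁ := by
    have h3 := congrArg (fun X : Subgroup G => MulAut.conj u • X) hcls
    simp only [Subgroup.smul_sup] at h3
    rw [conj_smul_inv, hQn s (so.SP₁ hs), conj_conj, ← hW'] at h3
    exact h3
  have hBW : B ≤ W' ⊔ centralizer (U : Set G) :=
    (le_sup_left.trans hsup.le).trans (sup_le_sup_left hcQ _)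
  have hWB : W' ≤ B ⊔ centralizer (U : Set G) :=
    (le_sup_left.trans hsup.ge).trans (sup_le_sup_left hcQ _)
  have hcW : ∀ x ∈ U, (x ∈ centralizer (W' : Set G) ↔ x ∈ EE V F) := by
    intro x hx
    rw [← hCB x hx]
    have hxc : centralizer (U : Set G) ≤ centralizer ({x} : Set G) := centralizer_le (Set.singleton_subset_iff.2 hx)
    have key : ∀ A : Subgroup G, x ∈ centralizer (A : Set G) ↔ A ≤ centralizer ({x} : Set G) := by
      intro A
      rw [mem_centralizer_iff]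
      exact ⟨fun h3 a ha => mem_centralizer_singleton_iff.2 (h3 a ha), fun h3 a ha =>
        mem_centralizer_singleton_iff.1 (h3 ha)⟩
    rw [key, key]
    exact ⟨fun h3 => hBW.trans (sup_le h3 hxc), fun h3 => hWB.trans (sup_le h3 hxc)⟩
  have hW'U : W' ≤ normalizer (U : Set G) := (hW'Q.trans hQT).trans hTU
  have hW'm : ¬ W' ≤ centralizer (U : Set G) := by
    intro h3
    exact o1 (hBW.trans (sup_le h3 le_rfl))
  have hω : ⁅U, W'⁆ = MulAut.conj (u * s) • ⁅L, W⁆ := by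
    rw [hU, hW']
    rw [hU, hW'] at hW'm
    refine so.comm_line hk husY huY ?_ hW'm
    rw [← hW']
    exact hW'Q.trans hQT
  -- an element of `ω - F`
  obtain ⟨r, hrω, hrU, hrI, hrF⟩ : ∃ r ∈ ⁅U, W'⁆, r ∈ U ∧ r ∈ V ⊓ B ∧ r ∉ F := by
    have h3 : c v₀ b₀ ∉ F := fun h4 => hb₀N (so.toBH.mem_NN_of_c (hUV hv₀) hv₀E hb₀ h4)
    have h4 : c v₀ b₀ ∈ U := NOThreeL.Low.Key.c_mem_left hv₀ (hBU hb₀)
    refine ⟨c v₀ b₀, ?_, h4, so.toBH.c_memI (hUV hv₀) hb₀, h3⟩
    have hn : W' ≤ normalizer (centralizer (U : Set G) : Set G) := by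
      refine le_normalizer_of fun k hk' x hx => ?_
      rw [mem_centralizer_iff] at hx ⊢
      intro y hy
      have hy' : k⁻¹ * y * k ∈ U := by
        have h5 := (mem_normalizer_iff.1 (hW'U (inv_mem hk')) y).1 hy
        rwa [inv_inv] at h5
      have h5 := hx _ hy'
      calc y * (k * x * k⁻¹) = k * (k⁻¹ * y * k * x) * k⁻¹ := by group
        _ = k * (x * (k⁻¹ * y * k)) * k⁻¹ := by rw [h5]
        _ = k * x * k⁻¹ * y := by group
    obtain ⟨a, ha, w, hw, e⟩ := NO3S.Pas.mem_sup_of_norm (A := centralizer (U : Set G)) (B := W') hn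
      (by rw [sup_comm]; exact hBW hb₀)
    have h5 : c v₀ w ∈ U := NOThreeL.Low.Key.c_mem_left hv₀ (hW'U hw)
    have h6 : v₀ * a = a * v₀ := mem_centralizer_iff.1 ha v₀ hv₀
    have h7 : c v₀ w * a = a * c v₀ w := mem_centralizer_iff.1 ha _ h5
    have h8 : c v₀ b₀ = c v₀ w := by
      have e3 : c v₀ (a * w) = v₀ * a * (w * v₀⁻¹ * w⁻¹) * a⁻¹ := by rw [c_def]; group
      have e4 : a * v₀ * (w * v₀⁻¹ * w⁻¹) * a⁻¹ = a * c v₀ w * a⁻¹ := by rw [c_def]; group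
      rw [← e, e3, h6, e4, ← h7, mul_inv_cancel_right]
    rw [h8, c_def, ← commutatorElement_def]
    exact commutator_mem_commutator hv₀ hw
  -- `C_W(r) ≤ C(L)` for `r ∈ I - F`
  have hIL : F.relIndex (V ⊓ B) ≤ F.relIndex L := by
    have h3 : F.relIndex (V ⊓ B) ≤ q := by rw [← hB_idx]; exact o4
    have h4 : (centralizer (W : Set G)).relIndex L ≤ F.relIndex L :=
      relIndex_le_of_le_left (fun x hx => cent_of_F hx) index_ne_zero_of_finite
    rw [nt.idx' _ hmW] at h4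
    exact h3.trans h4
  have hcI : ∀ x ∈ V ⊓ B, x ∉ F → ∀ y ∈ W, y * x = x * y → y ∈ centralizer (L : Set G) := by
    intro x hx hxF y hy hyx
    have hcos : Cos id L F (V ⊓ B) F := ⟨fun u hu => so.L_le_I hu, fun _ _ _ _ => Iff.rfl⟩
    obtain ⟨l, hl, hlx⟩ := hcos.surj hIL hx
    change l⁻¹ * x ∈ F at hlx
    have hlc : l ∉ centralizer (W : Set G) := by
      intro h3
      have h4 : l ∈ V ⊓ centralizer (W : Set G) := ⟨hLV hl, h3⟩
      rw [so.cent_VW] at h4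
      apply hxF
      have e : x = l * (l⁻¹ * x) := by group
      rw [e]
      exact mul_mem h4 hlx
    refine nt.cent W hmW l hl hlc y hy ?_
    have h3 : l⁻¹ * x * y = y * (l⁻¹ * x) := NOne.Flat.Hyp.F_comm hlx (NOne.Flat.Hyp.W_le_X hy)
    have e : l = x * (l⁻¹ * x)⁻¹ := by group
    have h4 : y * (l⁻¹ * x)⁻¹ = (l⁻¹ * x)⁻¹ * y := by
      have h5 : (l⁻¹ * x)⁻¹ * (l⁻¹ * x * y) * (l⁻¹ * x)⁻¹ = (l⁻¹ * x)⁻¹ * (y * (l⁻¹ * x)) * (l⁻¹ * x)⁻¹ := by rw [h3]
      have e5 : (l⁻¹ * x)⁻¹ * (l⁻¹ * x * y) * (l⁻¹ * x)⁻¹ = y * (l⁻¹ * x)⁻¹ := by group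
      have e6 : (l⁻¹ * x)⁻¹ * (y * (l⁻¹ * x)) * (l⁻¹ * x)⁻¹ = (l⁻¹ * x)⁻¹ * y := by group
      rw [e5, e6] at h5
      exact h5
    calc y * l = y * (x * (l⁻¹ * x)⁻¹) := by rw [← e]
      _ = y * x * (l⁻¹ * x)⁻¹ := by group
      _ = x * y * (l⁻¹ * x)⁻¹ := by rw [hyx]
      _ = x * (y * (l⁻¹ * x)⁻¹) := by group
      _ = x * ((l⁻¹ * x)⁻¹ * y) := by rw [h4]
      _ = x * (l⁻¹ * x)⁻¹ * y := by group
      _ = l * y := by rw [← e]
  -- **(b)**
  have hb : ∀ y ∈ W, y ∉ centralizer (L : Set G) → MulAut.conj y • W' ≤ centralizer (U : Set G) := by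
    intro y hy hyc
    by_contra hcon
    have hyP : y ∈ P₁ := so.SP₁ (so.WS hy)
    have e : MulAut.conj y • W' = MulAut.conj (y * (u * s)) • W := by rw [hW', conj_conj]
    have hle : MulAut.conj y • W' ≤ MulAut.conj u • (S : Subgroup G) := by
      have h3 := conj_le_iff (g := y).2 hW'Q
      rw [hQn y hyP] at h3
      exact h3.trans hQT
    have h3 : ⁅U, MulAut.conj y • W'⁆ = MulAut.conj y • ⁅U, W'⁆ := by
      have h4 := so.comm_line hk (t := y * (u * s)) (mul_mem (hWY hy) husY) huY (by rw [← hW, ← e]; exact hle)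
        (by rw [← hW, ← e, ← hL, ← hU]; exact hcon)
      rw [← hW, ← e, ← hL, ← hU] at h4
      rw [h4, hω, conj_conj]
    have h4 : y * r * y⁻¹ ∈ U := by
      have h5 : y * r * y⁻¹ ∈ ⁅U, MulAut.conj y • W'⁆ := by
        rw [h3]
        exact NOne.Frame.conj_mem hrω
      have h6 : ⁅U, MulAut.conj y • W'⁆ ≤ U := by
        rw [commutator_le]
        intro l hl t ht
        rw [commutatorElement_def, ← c_def]
        exact NOThreeL.Low.Key.c_mem_left hl (hTU (hle ht))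
      exact h6 h5
    have h5 : c r y ∈ U ⊓ ⁅L, W⁆ := by
      refine mem_inf.2 ⟨?_, hk.mem so.toBH so.L_le_I so.mov hrI hy⟩
      have e5 : c r y = r * (y * r * y⁻¹)⁻¹ := by rw [c_def]; group
      rw [e5]
      exact mul_mem hrU (inv_mem h4)
    rw [hdis, mem_bot] at h5
    exact hyc (hcI r hrI hrF y hy (NOThreeL.Low.Key.comm_of_c h5).symm)
  -- `Λ`
  obtain ⟨Λ, hΛ⟩ : ∃ Λ : Subgroup G, Λ = ⨆ p : P₁, MulAut.conj (p : G) • (MulAut.conj h • L) := ⟨_, rfl⟩
  have hΛV : Λ ≤ V := by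
    rw [hΛ]
    refine iSup_le fun p => ?_
    rw [conj_conj]
    exact so.line_le_V (mul_mem ((le_sup_right : P₁ ≤ P ⊔ P₁) p.2) hhY)
  have hΛP : ∀ p ∈ P₁, ∀ l ∈ Λ, p * l * p⁻¹ ∈ Λ := by
    intro p hp
    have h3 : Λ ≤ MulAut.conj p⁻¹ • Λ := by
      conv_lhs => rw [hΛ]
      refine iSup_le fun p' => ?_
      rw [← conj_le_iff', conj_conj]
      rw [hΛ]
      exact le_iSup (fun p : P₁ => MulAut.conj (p : G) • (MulAut.conj h • L)) ⟨p * p', mul_mem hp p'.2⟩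
    intro l hl
    have h4 := mem_conj.1 (h3 hl)
    rwa [inv_inv] at h4
  have hUΛ : U ≤ Λ := by
    rw [hd, hΛ]
    exact le_iSup (fun p : P₁ => MulAut.conj (p : G) • (MulAut.conj h • L)) ⟨g, hg.mem⟩
  obtain ⟨v, hv, hvE, hvE', -⟩ := exists_off (W := U) (B := EE V F) (nt.four.trans hU_idx) hv₀ hv₀
  have hvE1 : v ∉ EE V F := fun h3 => hvE (inv_mem h3)
  obtain ⟨w, hw, hwc⟩ := SetLike.not_le_iff_exists.1 so.mov
  obtain ⟨t, ht, hf⟩ := so.toHyp.surj (hUV hv) hvE1 (so.c_memE (hUV hv₀) hw)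
  have hcv : c v t ∈ V := so.c_memV (hUV hv) ht
  have hcw : c v₀ w ∈ V := so.c_memV (hUV hv₀) hw
  have hfF : (c v t)⁻¹ * c v₀ w ∈ F := by
    have h3 := inv_mem hf
    have e : (c v t * (c v₀ w)⁻¹)⁻¹ = c v₀ w * (c v t)⁻¹ := by group
    rwa [e, so.V_comm hcw (inv_mem hcv)] at h3
  have hcΛ : ∀ x ∈ U, ∀ y ∈ W, c x y ∈ Λ := by
    intro x hx y hy
    have e : c x y = x * (y * x⁻¹ * y⁻¹) := by rw [c_def]; group
    rw [e]
    exact mul_mem (hUΛ hx) (hΛP y (so.SP₁ (so.WS hy)) _ (hUΛ (inv_mem hx)))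
  refine phi (Λ := Λ) (A := Λ ⊓ centralizer (W' : Set G)) (L := U) (W := W) (B₁ := W ⊓ centralizer (L : Set G))
    (fun a ha b hb' => so.V_comm (hΛV ha) (hΛV hb')) inf_le_left hUΛ
    (fun w hw l hl => hΛP w (so.SP₁ (so.WS hw)) l hl) inf_le_left ?_ ?_ ?_ (v := v) (v' := v₀) (w := w) (s := t)
    (f := (c v t)⁻¹ * c v₀ w) hv hv₀ ?_ ?_ hw (fun h3 => hwc h3.2) ht
    (mul_mem (inv_mem (hcΛ v hv t ht)) (hcΛ v₀ hv₀ w hw)) ?_ ?_
  · -- (h2)
    intro x hx y hy hyB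
    have hyc : y⁻¹ ∉ centralizer (L : Set G) := fun h3 => hyB ⟨hy, by simpa using inv_mem h3⟩
    have h3 := hb y⁻¹ (inv_mem hy) hyc
    refine mem_inf.2 ⟨hΛP y (so.SP₁ (so.WS hy)) x (hUΛ hx), ?_⟩
    rw [mem_centralizer_iff]
    intro k hk'
    have h4 : y⁻¹ * k * y ∈ MulAut.conj y⁻¹ • W' := by
      have h5 : y⁻¹ * k * y⁻¹⁻¹ ∈ MulAut.conj y⁻¹ • W' := NOne.Frame.conj_mem hk'
      rwa [inv_inv] at h5
    have h5 := mem_centralizer_iff.1 (h3 h4) x hx
    calc k * (y * x * y⁻¹) = y * (y⁻¹ * k * y * x) * y⁻¹ := by group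
      _ = y * (x * (y⁻¹ * k * y)) * y⁻¹ := by rw [h5]
      _ = y * x * y⁻¹ * k := by group
  · -- (h3)
    rintro x hx b ⟨hbW, hbc⟩
    have hbQ : b ∈ o2 P₁ := by
      rw [← so.o2_eq]
      exact ⟨so.WS hbW, hbc⟩
    have hbx : b * x * b⁻¹ ∈ U := (mem_normalizer_iff.1 (hTU (hQT hbQ)) x).1 hx
    have h3 : b * x * b⁻¹ * x⁻¹ ∈ U := mul_mem hbx (inv_mem hx)
    refine mem_inf.2 ⟨hUΛ h3, (hcW _ h3).2 ?_⟩
    have e : b * x * b⁻¹ * x⁻¹ = (c x b)⁻¹ := by rw [c_def]; group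
    rw [e]
    exact inv_mem (so.c_memE (hUV hx) hbW)
  · -- (h4)
    rw [inf_relIndex_left, nt.idx _ hmW]
    exact nt.four
  · exact fun h3 => hv₀E ((hcW v₀ hv₀).1 h3.2)
  · intro h3
    apply hvE'
    have h4 := (hcW _ (mul_mem hv₀ (inv_mem hv))).1 h3.2
    rwa [so.V_comm (hUV hv₀) (hUV (inv_mem hv))] at h4
  · intro x hx
    have h3 : (c v t)⁻¹ * c v₀ w * x = x * ((c v t)⁻¹ * c v₀ w) :=
      NOne.Flat.Hyp.F_comm hfF (NOne.Flat.Hyp.W_le_X hx)
    rw [← h3, mul_inv_cancel_right]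
  · have e3 : v₀ * (w * v₀⁻¹ * w⁻¹) = c v₀ w := by rw [c_def]; group
    have e4 : v * (t * v⁻¹ * t⁻¹) = c v t := by rw [c_def]; group
    rw [e3, e4, mul_inv_cancel_left]

end Cfsg.Agent.Omega.NO3S.SOne

end

section


/-!
# GammaFF, (S1) (#21629), the KEY case, `q₀ ≥ 4`

* `SO.false_of_NT` : (S1), KEY, `q₀ ≥ 4`: (i) = `SO.conj_RR`, (ii) = `SO.good`, (iii) = `SO.line_good`, the end = `SO.false_of`.
-/

set_option autoImplicit false
set_option linter.unusedSectionVars false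

namespace Cfsg.Agent.Omega.NO3S.SOne

open Subgroup Cfsg Cfsg.Agent.ZN Cfsg.Agent.Omega.MinPar
open Cfsg.Agent.Omega.NO3S.Pas (Key)
open scoped Pointwise

universe u

variable {G : Type u} [Group G] [Finite G] {S : Sylow 2 G} {V F B P P₁ : Subgroup G}

/-- **(S1), KEY, `q₀ ≥ 4`.** -/
theorem SO.false_of_NT (so : SO S V F B P P₁) (hk : Key V F B) {q : ℕ} (nt : NT (S : Subgroup G) P₁ q)
    (htr : ∀ x ∈ zc (S : Subgroup G), x ≠ 1 → ∀ y ∈ zc (S : Subgroup G), y ≠ 1 →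
      ∃ h ∈ P, h ∈ normalizer ((S : Subgroup G) : Set G) ∧ h * x * h⁻¹ = y)
    (hC : zc (S : Subgroup G) ⊓ centralizer (P₁ : Set G) ≠ ⊥) : False := by
  refine so.false_of hk nt htr hC fun h hh hN h1 h2 => ?_
  obtain ⟨g, hg⟩ := nt.gen _ (nt.min (so.ka_one hk)) (so.ka_one hk).const
  exact so.good hk hh hN hg h1 h2 (so.line_good hk nt hh hN hg h1 h2)

end Cfsg.Agent.Omega.NO3S.SOne

end
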