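import Cfsg.Agent.Mrg.Omega.NO3S.SOne.KA
import Cfsg.Agent.Mrg.Omega.NO3S.Pas.Inst
import Cfsg.Agent.Mrg.Omega.VP

section


/-!
# GammaFF, (S1) (#21629), (ii): good lines

`h ∈ N_P(S)`, `L₂ = L₁^h`, `W₂ = W^h`, `W` centralises `L₂`, `W₂` centralises `L₁`, `g ∈ P₁` generic with `L₂^g ≤ E`:
`Z ∩ R₁^h ≤ C(P₁)`.
-/

set_option autoImplicit false
set_option linter.unusedSectionVars false

namespace Cfsg.Agent.Omega.NO3S.SOne

open Subgroup Cfsg Cfsg.Agent.ZN Cfsg.Agent.Omega.MinPar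
open Cfsg.Agent.Omega.NOne.Flat (EE NN conj_eq_of_norm conj_centralizer)
open Cfsg.Agent.Omega.NOne.NearFF (c c_def)
open Cfsg.Agent.Omega.NoFF.Basic (conj_conj mem_conj conj_le_iff conj_le_centralizer comm_symm)
open Cfsg.Agent.Omega.NO3S.Pas (Key)
open scoped Pointwise

universe u

variable {G : Type u} [Group G] [Finite G] {S : Sylow 2 G} {V F B P P₁ : Subgroup G}

theorem conj_commutator (g : G) (A B : Subgroup G) :
    MulAut.conj g • ⁅A, B⁆ = ⁅MulAut.conj g • A, MulAut.conj g • B⁆ :=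
  Subgroup.map_commutator A B (MulAut.conj g).toMonoidHom

/-- `A` is normalised by `K` if `k A k⁻¹ ≤ A` for all `k ∈ K`. -/
theorem le_normalizer_of {A K : Subgroup G} (h : ∀ k ∈ K, ∀ x ∈ A, k * x * k⁻¹ ∈ A) :
    K ≤ normalizer (A : Set G) := by
  intro k hk
  rw [mem_normalizer_iff]
  intro y
  refine ⟨h k hk y, fun hy => ?_⟩
  have h1 := h k⁻¹ (inv_mem hk) _ hy
  have e : k⁻¹ * (k * y * k⁻¹) * k⁻¹⁻¹ = y := by group
  rwa [e] at h1

/-- **(ii)** -/
theorem SO.good (so : SO S V F B P P₁) (hk : Key V F B) {h g : G} (hh : h ∈ P)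
    (hN : h ∈ normalizer ((S : Subgroup G) : Set G)) (hg : Gen (S : Subgroup G) P₁ (NOne.Flat.WW V F) g)
    (h1 : NOne.Flat.WW V F ≤ centralizer ((MulAut.conj h • zl (S : Subgroup G) P₁ : Subgroup G) : Set G))
    (h2 : MulAut.conj h • NOne.Flat.WW V F ≤ centralizer (zl (S : Subgroup G) P₁ : Set G))
    (hgood : MulAut.conj (g * h) • zl (S : Subgroup G) P₁ ≤ EE V F) :
    zc (S : Subgroup G) ⊓ MulAut.conj h • RR (S : Subgroup G) P₁ (NOne.Flat.WW V F) ≤ centralizer (P₁ : Set G) := by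
  set W : Subgroup G := NOne.Flat.WW V F with hW
  set L : Subgroup G := zl (S : Subgroup G) P₁ with hL
  set d : Subgroup G := MulAut.conj h • L with hd
  have hS : MulAut.conj h • (S : Subgroup G) = S := conj_eq_of_norm hN
  have hhY : h ∈ P ⊔ P₁ := (le_sup_left : P ≤ P ⊔ P₁) hh
  have hgY : g ∈ P ⊔ P₁ := (le_sup_right : P₁ ≤ P ⊔ P₁) hg.mem
  have hLV : L ≤ V := so.L_le_V
  have hdV : d ≤ V := so.line_le_V hhY
  have hPL : P₁ ≤ normalizer (L : Set G) := so.PL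
  have hSd : (S : Subgroup G) ≤ normalizer (d : Set G) := by
    refine le_normalizer_of fun s hs x hx => ?_
    have hs' : h⁻¹ * s * h ∈ (S : Subgroup G) := by
      have h3 : s ∈ MulAut.conj h • (S : Subgroup G) := by rw [hS]; exact hs
      exact mem_conj.1 h3
    rw [hd, mem_conj] at hx ⊢
    have h3 := (mem_normalizer_iff.1 (hPL (so.SP₁ hs')) _).1 hx
    have e : h⁻¹ * (s * x * s⁻¹) * h = h⁻¹ * s * h * (h⁻¹ * x * h) * (h⁻¹ * s * h)⁻¹ := by group
    rw [e]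
    exact h3
  have hdL : d ≤ normalizer (L : Set G) :=
    (hdV.trans (so.comm.trans (centralizer_le hLV))).trans (centralizer_le_normalizer _)
  -- `A = L₂ L₁`
  set A : Subgroup G := d ⊔ L with hA
  have hAV : A ≤ V := sup_le hdV hLV
  have hgI : MulAut.conj g • d ≤ B := by
    rw [hd, conj_conj]
    exact so.line1 g hg.mem h hh hN hgood
  have hAI : MulAut.conj g • A ≤ V ⊓ B := by
    refine le_inf ?_ ?_
    · have h3 := conj_le_iff (g := g).2 hAV
      rwa [so.conj_V hgY] at h3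
    · rw [hA, Subgroup.smul_sup]
      refine sup_le hgI ?_
      rw [so.conj_L hg.mem]
      exact so.L_le_I.trans inf_le_right
  have hAW : ∀ x ∈ A, ∀ s ∈ MulAut.conj g⁻¹ • W, c x s ∈ L := by
    intro x hx s hs
    rw [mem_conj, inv_inv] at hs
    have hx' : g * x * g⁻¹ ∈ V ⊓ B := hAI (NOne.Frame.conj_mem hx)
    have h3 := hk.mem so.toBH so.L_le_I so.mov hx' hs
    have h4 : ⁅L, W⁆ ≤ L := by
      rw [commutator_le]
      intro l hl t ht
      rw [commutatorElement_def, ← c_def]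
      exact NOThreeL.Low.Key.c_mem_left hl (hPL (so.SP₁ (so.WS ht)))
    have h5 := (mem_normalizer_iff.1 (hPL (inv_mem hg.mem)) _).1 (h4 h3)
    have e : g⁻¹ * c (g * x * g⁻¹) (g * s * g⁻¹) * g⁻¹⁻¹ = c x s := by rw [c_def, c_def]; group
    rwa [e] at h5
  have hSA : (S : Subgroup G) ≤ normalizer (A : Set G) := by
    refine le_normalizer_of fun s hs x hx => ?_
    have h3 : MulAut.conj s • A = A := by
      rw [hA, Subgroup.smul_sup, conj_eq_of_norm (hSd hs), conj_eq_of_norm (hPL (so.SP₁ hs))]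
    rw [← h3]
    exact NOne.Frame.conj_mem hx
  have hWA : MulAut.conj g⁻¹ • W ≤ normalizer (A : Set G) := by
    refine le_normalizer_of fun s hs x hx => ?_
    have e : s * x * s⁻¹ = x * c x⁻¹ s := by rw [c_def]; group
    rw [e]
    exact mul_mem hx (le_sup_right (a := d) (hAW x⁻¹ (inv_mem hx) s hs))
  have hPA : P₁ ≤ normalizer (A : Set G) := hg.gen.trans (sup_le hSA hWA)
  -- `X = [A, Q]`
  set X : Subgroup G := closure {y | ∃ u ∈ A, ∃ q ∈ o2 P₁, y = c u q} with hX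
  have hQS : o2 P₁ ≤ (S : Subgroup G) := so.hP₁.isLoc.o2_le S
  have hQL : o2 P₁ ≤ centralizer (L : Set G) := by
    rw [← so.o2_eq]
    exact inf_le_right
  have hXc : X ≤ d := by
    rw [hX, closure_le]
    rintro y ⟨u, hu, q, hq, rfl⟩
    obtain ⟨l, hl, x, hx, rfl⟩ := Cfsg.Agent.Omega.NO3S.Pas.mem_sup_of_norm hdL (by rw [sup_comm]; exact hu)
    have hql : q * l⁻¹ * q⁻¹ = l⁻¹ := by
      have h3 := mem_centralizer_iff.1 (hQL hq) l⁻¹ (inv_mem hl)
      rw [← h3, mul_inv_cancel_right]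
    have h4 : q * x⁻¹ * q⁻¹ ∈ d := (mem_normalizer_iff.1 (hSd (hQS hq)) _).1 (inv_mem hx)
    have h3 : x * (q * x⁻¹ * q⁻¹) ∈ d := mul_mem hx h4
    have e1 : c (l * x) q = l * (x * (q * x⁻¹ * q⁻¹)) * (q * l⁻¹ * q⁻¹) := by rw [c_def]; group
    rw [SetLike.mem_coe, e1, hql, so.V_comm (hLV hl) (hdV h3), mul_inv_cancel_right]
    exact h3
  have hPX : P₁ ≤ normalizer (X : Set G) := by
    refine le_normalizer_of fun t ht x hx => ?_
    induction hx using closure_induction with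
    | mem x hx =>
      obtain ⟨u, hu, q, hq, rfl⟩ := hx
      refine subset_closure ⟨t * u * t⁻¹, (mem_normalizer_iff.1 (hPA ht) _).1 hu, t * q * t⁻¹,
        (mem_normalizer_iff.1 (MinSimple.VModule.le_normalizer_o2 P₁ ht) _).1 hq, ?_⟩
      rw [c_def, c_def]
      group
    | one => rw [mul_one, mul_inv_cancel]; exact one_mem _
    | mul x y _ _ hx hy =>
      have e : t * (x * y) * t⁻¹ = t * x * t⁻¹ * (t * y * t⁻¹) := by group
      rw [e]
      exact mul_mem hx hy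
    | inv x _ hx =>
      have e : t * x⁻¹ * t⁻¹ = (t * x * t⁻¹)⁻¹ := by group
      rw [e]
      exact inv_mem hx
  -- `R₁^h ≤ X`
  have hW2 : MulAut.conj h • W ≤ o2 P₁ := by
    rw [← so.o2_eq]
    refine le_inf ?_ h2
    rw [← hS]
    exact conj_le_iff.2 so.WS
  have hR0 : MulAut.conj h • ⁅L, W⁆ ≤ X := by
    rw [conj_commutator, commutator_le]
    intro x hx w hw
    rw [commutatorElement_def, ← c_def]
    exact subset_closure ⟨x, le_sup_left (b := L) hx, w, hW2 hw, rfl⟩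
  have hR : MulAut.conj h • RR (S : Subgroup G) P₁ W ≤ X := by
    rw [conj_le_iff', RR]
    refine iSup_le fun s => ?_
    rw [← conj_le_iff', conj_conj]
    have hs' : h * (s : G) * h⁻¹ ∈ (S : Subgroup G) := by
      have h3 : h * (s : G) * h⁻¹ ∈ MulAut.conj h • (S : Subgroup G) := NOne.Frame.conj_mem s.2
      rwa [hS] at h3
    have e : h * (s : G) = h * (s : G) * h⁻¹ * h := by group
    rw [e, ← conj_conj]
    refine (conj_le_iff.2 hR0).trans ?_
    rw [conj_eq_of_norm (hPX (so.SP₁ hs'))]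
  -- `W^(g⁻¹)` centralises `X`
  have hWX : MulAut.conj g⁻¹ • W ≤ centralizer (X : Set G) := by
    have h3 : W ≤ centralizer (X : Set G) := h1.trans (centralizer_le hXc)
    have h4 := conj_le_centralizer (g := g⁻¹) h3
    rwa [conj_eq_of_norm (hPX (inv_mem hg.mem))] at h4
  rintro z ⟨hz, hzR⟩
  have hzX : z ∈ X := hR hzR
  rw [mem_centralizer_iff]
  have h5 : P₁ ≤ centralizer ({z} : Set G) := by
    refine hg.gen.trans (sup_le ?_ ?_)
    · intro s hs
      rw [mem_centralizer_singleton_iff]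
      exact ((ZN.mem_zc.mp hz).2.1 s hs)
    · intro s hs
      rw [mem_centralizer_singleton_iff]
      exact (mem_centralizer_iff.1 (hWX hs) z hzX).symm
  intro p hp
  exact mem_centralizer_singleton_iff.1 (h5 hp)

end Cfsg.Agent.Omega.NO3S.SOne

end

section


/-!
# GammaFF, (S1) (#21629): (i) and the assembly, KEY case, `q₀ ≥ 4`

`A = W = WW V F`, `ρ = ⁅L₁, W⁆`, `R₁ = RR S P₁ W = ⟨ρ^S⟩`.

* `comm_sup_cent` : `⁅L, A ⊔ C⁆ = ⁅L, A⁆` if `C` centralises `L`;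
* `SO.conj_RR` : (i) `h ∈ N_P(S)`, `W` moves `L₁^h` ⟹ `R₁^h = R₁`;
* `SO.conj_RR'` : the same if `W^h` moves `L₁`;
* `SO.RR_le_V`, `SO.RR_ne` : `Z ∩ R₁ ≠ 1`;
* `SO.false_of` : the end.
-/

set_option autoImplicit false
set_option linter.unusedSectionVars false

namespace Cfsg.Agent.Omega.NO3S.SOne

open Subgroup Cfsg Cfsg.Agent.ZN Cfsg.Agent.Omega.MinPar
open Cfsg.Agent.Omega.NOne.Flat (EE NN conj_eq_of_norm conj_centralizer)
open Cfsg.Agent.Omega.NoFF.Basic (conj_conj mem_conj conj_le_iff conj_le_centralizer comm_symm)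
open Cfsg.Agent.Omega.NOThreeL.Low.Key (BH)
open Cfsg.Agent.Omega.FFThm (ElemM OffM NoOverM)
open Cfsg.Agent.Omega.FrameFF (cv)
open Cfsg.Agent.Omega.NO3S.Pas (Key)
open scoped Pointwise

universe u

variable {G : Type u} [Group G]

theorem mul_of_mem_sup {A B : Subgroup G} (h : A ≤ normalizer (B : Set G)) {x : G} (hx : x ∈ A ⊔ B) :
    ∃ a ∈ A, ∃ b ∈ B, x = a * b := by
  rw [sup_eq_closure] at hx
  refine closure_induction (fun y hy => ?_) ?_ (fun y z _ _ hy hz => ?_) (fun y _ hy => ?_) hx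
  · rcases hy with hy | hy
    · exact ⟨y, hy, 1, B.one_mem, (mul_one y).symm⟩
    · exact ⟨1, A.one_mem, y, hy, (one_mul y).symm⟩
  · exact ⟨1, A.one_mem, 1, B.one_mem, (mul_one 1).symm⟩
  · obtain ⟨a, ha, b, hb, rfl⟩ := hy
    obtain ⟨a', ha', b', hb', rfl⟩ := hz
    refine ⟨a * a', A.mul_mem ha ha', a'⁻¹ * b * a' * b', B.mul_mem ?_ hb', by group⟩
    have := (mem_normalizer_iff.1 (h (A.inv_mem ha')) b).1 hb
    rwa [inv_inv] at this
  · obtain ⟨a, ha, b, hb, rfl⟩ := hy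
    exact ⟨a⁻¹, A.inv_mem ha, a * b⁻¹ * a⁻¹, (mem_normalizer_iff.1 (h ha) b⁻¹).1 (B.inv_mem hb), by group⟩

theorem comm_sup_cent {L A C : Subgroup G} (hC : C ≤ centralizer (L : Set G)) (hA : A ≤ normalizer (C : Set G)) :
    ⁅L, A ⊔ C⁆ = ⁅L, A⁆ := by
  refine le_antisymm ?_ (commutator_mono le_rfl le_sup_left)
  rw [commutator_le]
  intro l hl x hx
  obtain ⟨a, ha, c, hc, rfl⟩ := mul_of_mem_sup hA hx
  have h1 : l * c = c * l := mem_centralizer_iff.1 (hC hc) l hl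
  have h3 : c * l⁻¹ * c⁻¹ = l⁻¹ := by
    have h4 : c * l⁻¹ = l⁻¹ * c := by
      rw [eq_inv_mul_iff_mul_eq, ← mul_assoc, h1, mul_inv_cancel_right]
    rw [h4, mul_inv_cancel_right]
  have h2 : l * (a * c) * l⁻¹ * (a * c)⁻¹ = l * a * l⁻¹ * a⁻¹ := by
    calc l * (a * c) * l⁻¹ * (a * c)⁻¹ = l * a * (c * l⁻¹ * c⁻¹) * a⁻¹ := by group
      _ = l * a * l⁻¹ * a⁻¹ := by rw [h3]
  rw [commutatorElement_def, h2, ← commutatorElement_def]
  exact commutator_mem_commutator hl ha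

theorem cj_comm (g : G) (A B : Subgroup G) :
    MulAut.conj g • ⁅A, B⁆ = ⁅MulAut.conj g • A, MulAut.conj g • B⁆ :=
  Subgroup.map_commutator A B (MulAut.conj g).toMonoidHom

theorem RR_eq_Cl (T H A : Subgroup G) : RR T H A = Trans.Cl T ⁅zl T H, A⁆ := by
  unfold RR Trans.Cl
  exact iSup_subtype

variable [Finite G] {S : Sylow 2 G} {V F B P P₁ : Subgroup G} {q : ℕ}

namespace SO

variable (so : SO S V F B P P₁)
include so

theorem o2_cent : o2 P₁ ≤ centralizer (zl (S : Subgroup G) P₁ : Set G) := by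
  rw [← so.o2_eq]
  exact inf_le_right

/-- `[L₁, A]` depends on `A O₂(P₁)` only -/
theorem comm_o2 {A : Subgroup G} (hA : A ≤ (S : Subgroup G)) :
    ⁅zl (S : Subgroup G) P₁, A ⊔ o2 P₁⁆ = ⁅zl (S : Subgroup G) P₁, A⁆ :=
  comm_sup_cent so.o2_cent (hA.trans (so.SP₁.trans (le_normalizer_o2 P₁)))

/-- **(i)** -/
theorem conj_RR (hk : Key V F B) (nt : NT (S : Subgroup G) P₁ q) {h : G} (hh : h ∈ P)
    (hN : h ∈ normalizer ((S : Subgroup G) : Set G))
    (hm : ¬ NOne.Flat.WW V F ≤ centralizer ((MulAut.conj h • zl (S : Subgroup G) P₁ : Subgroup G) : Set G)) :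
    MulAut.conj h • RR (S : Subgroup G) P₁ (NOne.Flat.WW V F) = RR (S : Subgroup G) P₁ (NOne.Flat.WW V F) := by
  have hY : h ∈ P ⊔ P₁ := (le_sup_left : P ≤ P ⊔ P₁) hh
  have hS : MulAut.conj h • (S : Subgroup G) = S := conj_eq_of_norm hN
  have hS' : MulAut.conj h⁻¹ • (S : Subgroup G) = S := conj_eq_of_norm (inv_mem hN)
  -- `⁅L₁^h, W⁆ = ρ`
  have h1 : ⁅MulAut.conj h • zl (S : Subgroup G) P₁, NOne.Flat.WW V F⁆ =
      ⁅zl (S : Subgroup G) P₁, NOne.Flat.WW V F⁆ :=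
    so.comm_eq hk (so.line_le_I hY (by rw [hS]; exact so.WS)) so.L_le_I hm so.mov
  -- `W^(h⁻¹)`
  have h2 : MulAut.conj h⁻¹ • NOne.Flat.WW V F ≤ (S : Subgroup G) := by
    rw [← hS']
    exact conj_le_iff.2 so.WS
  have h3 : ¬ MulAut.conj h⁻¹ • NOne.Flat.WW V F ≤ o2 P₁ := by
    intro h3
    apply hm
    have h4 := conj_le_centralizer (g := h) (h3.trans so.o2_cent)
    rwa [conj_smul_inv] at h4
  have h4 := so.ka hk (inv_mem hY) h2 h3
  obtain ⟨s, hs, e⟩ := nt.cls _ _ (nt.min (so.ka_one hk)) (nt.min h4)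
  have h5 : MulAut.conj s • zl (S : Subgroup G) P₁ = zl (S : Subgroup G) P₁ := so.conj_L (so.SP₁ hs)
  have h6 : MulAut.conj h⁻¹ • ⁅zl (S : Subgroup G) P₁, NOne.Flat.WW V F⁆ =
      MulAut.conj s • ⁅zl (S : Subgroup G) P₁, NOne.Flat.WW V F⁆ := by
    have h7 : MulAut.conj s • ⁅zl (S : Subgroup G) P₁, NOne.Flat.WW V F⁆ =
        ⁅zl (S : Subgroup G) P₁, MulAut.conj h⁻¹ • NOne.Flat.WW V F⁆ := by
      rw [← so.comm_o2 so.WS, cj_comm, h5, ← e, so.comm_o2 h2]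
    rw [h7, ← h1, cj_comm, conj_inv_smul]
  have h7 : MulAut.conj h⁻¹ • RR (S : Subgroup G) P₁ (NOne.Flat.WW V F) =
      RR (S : Subgroup G) P₁ (NOne.Flat.WW V F) := by
    rw [RR_eq_Cl, Trans.conj_Cl (inv_mem hN), h6, Trans.Cl_conj hs]
  conv_lhs => rw [← h7]
  rw [conj_smul_inv]

/-- **(i)**, the mirror image -/
theorem conj_RR' (hk : Key V F B) (nt : NT (S : Subgroup G) P₁ q) {h : G} (hh : h ∈ P)
    (hN : h ∈ normalizer ((S : Subgroup G) : Set G))
    (hm : ¬ MulAut.conj h • NOne.Flat.WW V F ≤ centralizer (zl (S : Subgroup G) P₁ : Set G)) :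
    MulAut.conj h • RR (S : Subgroup G) P₁ (NOne.Flat.WW V F) = RR (S : Subgroup G) P₁ (NOne.Flat.WW V F) := by
  have hm' : ¬ NOne.Flat.WW V F ≤ centralizer ((MulAut.conj h⁻¹ • zl (S : Subgroup G) P₁ : Subgroup G) : Set G) := by
    intro h1
    have h2 := conj_le_centralizer (g := h) h1
    rw [conj_smul_inv] at h2
    exact hm h2
  have h1 := so.conj_RR hk nt (inv_mem hh) (inv_mem hN) hm'
  conv_lhs => rw [← h1]
  rw [conj_smul_inv]

theorem L_le_S : zl (S : Subgroup G) P₁ ≤ (S : Subgroup G) :=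
  so.L_le_I.trans (inf_le_right.trans (by
    have h1 := so.BS 1 (one_mem _)
    rwa [map_one, one_smul] at h1))

theorem comm_le_L {A : Subgroup G} (hA : A ≤ (S : Subgroup G)) :
    ⁅zl (S : Subgroup G) P₁, A⁆ ≤ zl (S : Subgroup G) P₁ := by
  rw [commutator_le]
  intro l hl a ha
  rw [commutatorElement_def]
  have h1 := (mem_normalizer_iff.1 (so.PL (so.SP₁ (hA ha))) l⁻¹).1 (inv_mem hl)
  have h2 : l * a * l⁻¹ * a⁻¹ = l * (a * l⁻¹ * a⁻¹) := by group
  rw [h2]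
  exact mul_mem hl h1

theorem RR_le_L : RR (S : Subgroup G) P₁ (NOne.Flat.WW V F) ≤ zl (S : Subgroup G) P₁ := by
  unfold RR
  refine iSup_le fun s => ?_
  refine (conj_le_iff.2 (so.comm_le_L so.WS)).trans ?_
  exact (so.conj_L (so.SP₁ s.2)).le

theorem S_norm_RR : (S : Subgroup G) ≤ normalizer (RR (S : Subgroup G) P₁ (NOne.Flat.WW V F) : Set G) := by
  have key : ∀ s ∈ (S : Subgroup G), MulAut.conj s • RR (S : Subgroup G) P₁ (NOne.Flat.WW V F) =
      RR (S : Subgroup G) P₁ (NOne.Flat.WW V F) := by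
    intro s hs
    rw [RR_eq_Cl, Trans.conj_Cl (le_normalizer hs), Trans.Cl_conj hs]
  intro s hs
  rw [mem_normalizer_iff]
  intro x
  have h1 := key s hs
  constructor
  · intro hx
    have h2 := smul_mem_pointwise_smul x (MulAut.conj s) _ hx
    rwa [h1] at h2
  · intro hx
    have h2 : s * x * s⁻¹ ∈ MulAut.conj s • RR (S : Subgroup G) P₁ (NOne.Flat.WW V F) := by rwa [h1]
    rw [mem_conj] at h2
    have e : s⁻¹ * (s * x * s⁻¹) * s = x := by group
    rwa [e] at h2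

/-- `Z ∩ R₁ ≠ 1` -/
theorem exists_mem_RR : ∃ z ∈ zc (S : Subgroup G), z ≠ 1 ∧ z ∈ RR (S : Subgroup G) P₁ (NOne.Flat.WW V F) := by
  have hne : RR (S : Subgroup G) P₁ (NOne.Flat.WW V F) ≠ ⊥ := by
    intro h0
    apply so.mov
    have h1 : ⁅zl (S : Subgroup G) P₁, NOne.Flat.WW V F⁆ ≤ RR (S : Subgroup G) P₁ (NOne.Flat.WW V F) := by
      have h2 := le_iSup (fun s : (S : Subgroup G) => MulAut.conj (s : G) • ⁅zl (S : Subgroup G) P₁, NOne.Flat.WW V F⁆) 1
      rwa [OneMemClass.coe_one, map_one, one_smul] at h2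
    rw [h0, le_bot_iff, commutator_eq_bot_iff_le_centralizer] at h1
    exact comm_symm h1
  obtain ⟨x, hx, hx1, hxS⟩ := NoFF.LinesPlug.exists_fixed S.isPGroup' (so.RR_le_L.trans so.L_le_S) so.S_norm_RR hne
  refine ⟨x, ChoiceBase.mem_zc.2 ⟨so.L_le_S (so.RR_le_L hx), ?_, hxS⟩, hx1, hx⟩
  exact so.toHyp.sq x (so.L_le_V (so.RR_le_L hx))

/-- **The end**, KEY, `q₀ ≥ 4`: `N_P(S)` transitive on `Z#`, (ii) + (iii) for the `h` with `[L₁^h, W] = [L₁, W^h] = 1`. -/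
theorem false_of (hk : Key V F B) (nt : NT (S : Subgroup G) P₁ q)
    (htr : ∀ x ∈ zc (S : Subgroup G), x ≠ 1 → ∀ y ∈ zc (S : Subgroup G), y ≠ 1 →
      ∃ h ∈ P, h ∈ normalizer ((S : Subgroup G) : Set G) ∧ h * x * h⁻¹ = y)
    (hC : zc (S : Subgroup G) ⊓ centralizer (P₁ : Set G) ≠ ⊥)
    (h2 : ∀ h ∈ P, h ∈ normalizer ((S : Subgroup G) : Set G) →
      NOne.Flat.WW V F ≤ centralizer ((MulAut.conj h • zl (S : Subgroup G) P₁ : Subgroup G) : Set G) →
      MulAut.conj h • NOne.Flat.WW V F ≤ centralizer (zl (S : Subgroup G) P₁ : Set G) →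
      zc (S : Subgroup G) ⊓ MulAut.conj h • RR (S : Subgroup G) P₁ (NOne.Flat.WW V F) ≤
        centralizer (P₁ : Set G)) : False := by
  have hdis : RR (S : Subgroup G) P₁ (NOne.Flat.WW V F) ⊓ (zc (S : Subgroup G) ⊓ centralizer (P₁ : Set G)) = ⊥ := by
    rw [eq_bot_iff, ← nt.dis _ (nt.min (so.ka_one hk)) (so.ka_one hk).const]
    refine inf_le_inf_left _ ?_
    exact fun x hx => ⟨MinSimple.VModule.zc_le_zl _ _ hx.1,
      centralizer_le (MinSimple.VModule.oddGen_le P₁) hx.2⟩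
  obtain ⟨z, hz, hz1, hzR⟩ := so.exists_mem_RR
  obtain ⟨⟨c, hc⟩, hc1⟩ := Subgroup.ne_bot_iff_exists_ne_one.1 hC
  have hc1 : c ≠ 1 := fun h => hc1 (Subtype.ext h)
  have hzc1 : z * c ≠ 1 := by
    intro h0
    have h3 : c = z⁻¹ := by rw [← mul_left_cancel_iff (a := z), h0, mul_inv_cancel]
    have h4 : c ∈ (⊥ : Subgroup G) := by
      rw [← hdis]
      have h5 : z⁻¹ ∈ RR (S : Subgroup G) P₁ (NOne.Flat.WW V F) := inv_mem hzR
      rw [← h3] at h5
      exact ⟨h5, hc⟩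
    exact hc1 (mem_bot.1 h4)
  obtain ⟨h, hh, hN, e⟩ := htr z hz hz1 (z * c) (mul_mem hz hc.1) hzc1
  have hmem : z * c ∈ MulAut.conj h • RR (S : Subgroup G) P₁ (NOne.Flat.WW V F) := by
    rw [← e]
    exact smul_mem_pointwise_smul z (MulAut.conj h) _ hzR
  have key : MulAut.conj h • RR (S : Subgroup G) P₁ (NOne.Flat.WW V F) =
      RR (S : Subgroup G) P₁ (NOne.Flat.WW V F) ∨ zc (S : Subgroup G) ⊓
      MulAut.conj h • RR (S : Subgroup G) P₁ (NOne.Flat.WW V F) ≤ centralizer (P₁ : Set G) := by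
    by_cases h3 : NOne.Flat.WW V F ≤ centralizer ((MulAut.conj h • zl (S : Subgroup G) P₁ : Subgroup G) : Set G)
    · by_cases h4 : MulAut.conj h • NOne.Flat.WW V F ≤ centralizer (zl (S : Subgroup G) P₁ : Set G)
      · exact Or.inr (h2 h hh hN h3 h4)
      · exact Or.inl (so.conj_RR' hk nt hh hN h4)
    · exact Or.inl (so.conj_RR hk nt hh hN h3)
  rcases key with h3 | h3
  · rw [h3] at hmem
    have h4 : c ∈ RR (S : Subgroup G) P₁ (NOne.Flat.WW V F) := by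
      have h5 := mul_mem (inv_mem hzR) hmem
      rwa [inv_mul_cancel_left] at h5
    have h6 : c ∈ (⊥ : Subgroup G) := by
      rw [← hdis]
      exact ⟨h4, hc⟩
    exact hc1 (mem_bot.1 h6)
  · have h4 := h3 ⟨mul_mem hz hc.1, hmem⟩
    have h5 : z ∈ centralizer (P₁ : Set G) := by
      have h6 := mul_mem h4 (inv_mem hc.2)
      rwa [mul_inv_cancel_right] at h6
    have h6 : z ∈ (⊥ : Subgroup G) := by
      rw [← hdis]
      exact ⟨hzR, hz, h5⟩
    exact hz1 (mem_bot.1 h6)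

end SO

end Cfsg.Agent.Omega.NO3S.SOne

end
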