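import Cfsg.Agent.Mrg.Omega.NO3S.GFF.S1.Four
import Cfsg.Agent.Mrg.Omega.NO3S.Pas.PasN
import Cfsg.Agent.Mrg.Omega.NO3S.SOne.KA


/-!
# GammaFF, (S1) (#21629): the KEY for the front (T8)

Over 905's `KeyRad.key_or`: a bad line of type `P` or `P₁^v` at distance `n`: `Key V F B`, or the exceptional case
`|I : F| = 4`, `|V : E| = 2`, `P₁` natural over a field with at least 4 elements, `cv S P₁ ≠ 1`.

* `key_of_const` : constant commutators on `L₁` with `L₁ F = I` give the KEY;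
* `Fnt.key_of_const` : constant commutators on `L₁` give the KEY for every bad line.
-/

set_option autoImplicit false
set_option linter.unusedSectionVars false

namespace Cfsg.Agent.Omega.NO3S.SOne

open Subgroup Cfsg Cfsg.Agent.ZN Cfsg.Agent.Omega.MinPar
open Cfsg.Agent.Omega.NOne.Flat (EE NN BadX Cos conj_eq_of_norm conj_centralizer WW_conj EE_conj)
open Cfsg.Agent.Omega.NoFF.Basic (conj_conj mem_conj conj_le_iff conj_le_centralizer)
open Cfsg.Agent.Omega.FrameNOFF (CZ)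
open Cfsg.Agent.Omega.FrameFF (cv)
open Cfsg.Agent.Omega.FFThm (StmtM ConclM OffM NoOverM)
open Cfsg.Agent.Omega.NO3S.Pas (ChT GdT BBT FrT BLT bhT WFr Key)
open Cfsg.Agent.Omega.NO3S.KeyRad (NatBig key_or)
open scoped Pointwise

universe u

variable {G : Type u} [Group G] [Finite G] {S : Sylow 2 G} {P P₁ V F : Subgroup G} {n : ℕ}

/-- **(T8)** -/
theorem Fnt.key_or (h : Fnt S P P₁ V F n) (hFF : StmtM.{u})
    (hlow : ∀ Q, IsParS (S : Subgroup G) Q → zl (S : Subgroup G) Q ≤ o2 (CZ (S : Subgroup G)))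
    (hcv : cv (S : Subgroup G) P = ⊥) (act : ¬ NOne.Flat.WW V F ≤ o2 P₁) {g : G} {R : Subgroup G}
    (hg : ChT (TT (S : Subgroup G) P P₁) (P ⊔ P₁) (S : Subgroup G) (NOne.Flat.WW V F) n g)
    (hR : R ∈ TT (S : Subgroup G) P P₁) (hbad : ¬ MulAut.conj g • zl (S : Subgroup G) R ≤ EE V F) :
    Key V F (BF (TT (S : Subgroup G) P P₁) (P ⊔ P₁) (S : Subgroup G) V n F) ∨
      (F.relIndex (IF (TT (S : Subgroup G) P P₁) (P ⊔ P₁) (S : Subgroup G) V n F) = 4 ∧ (EE V F).relIndex V = 2 ∧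
        NatBig (S : Subgroup G) P₁ ∧ cv (S : Subgroup G) P₁ ≠ ⊥) := by
  have hL : zl (S : Subgroup G) P₁ ≤ IF (TT (S : Subgroup G) P P₁) (P ⊔ P₁) (S : Subgroup G) V n F :=
    h.zl_le_I P₁_mem_TT
  have hI : ¬ V ⊓ BF (TT (S : Subgroup G) P P₁) (P ⊔ P₁) (S : Subgroup G) V n F ≤ F := by
    intro h1
    apply act
    rw [← h.par₁.inf_centralizer S h.fr.hc]
    refine le_inf h.WS ?_
    intro s hs
    rw [mem_centralizer_iff]
    exact fun l hl => NOne.Flat.Hyp.F_comm (h1 (hL hl)) (NOne.Flat.Hyp.W_le_X hs)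
  have hgM := h.fr.mem_M hg
  have hgN := h.norm hgM
  have hBS := Pas.BL_le_conjT h.fr le_rfl hg
  have key : ∀ (Q : Subgroup G) (g' : G), IsParS (S : Subgroup G) Q → g' ∈ normalizer (V : Set G) →
      MulAut.conj g' • (S : Subgroup G) = MulAut.conj g • (S : Subgroup G) →
      MulAut.conj g' • zl (S : Subgroup G) Q = MulAut.conj g • zl (S : Subgroup G) R →
      Key V F (BF (TT (S : Subgroup G) P P₁) (P ⊔ P₁) (S : Subgroup G) V n F) ∨
      (F.relIndex (V ⊓ BF (TT (S : Subgroup G) P P₁) (P ⊔ P₁) (S : Subgroup G) V n F) = 4 ∧ (EE V F).relIndex V = 2 ∧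
        NatBig (S : Subgroup G) Q ∧ cv (S : Subgroup G) Q ≠ ⊥) := by
    intro Q g' hQ hg' e1 e2
    refine KeyRad.key_or hFF h.fr.hc hQ (hlow Q hQ) h.bh h.fr.sup_sq hg' hI ?_ ?_ ?_
    · rw [e1]; exact hBS
    · rw [e2]; exact h.fr.line_le_V hgM hR
    · rw [e2]; exact hbad
  rcases hR with rfl | ⟨v, hv, rfl⟩
  · rcases key R g h.par hgN rfl rfl with h1 | ⟨-, -, -, h4⟩
    · exact Or.inl h1
    · exact absurd hcv h4
  · have hvM : v ∈ P ⊔ P₁ := (le_sup_left : P ≤ P ⊔ P₁) hv.1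
    refine key P₁ (g * v) h.par₁ (h.norm (mul_mem hgM hvM)) ?_ ?_
    · rw [← conj_conj, conj_eq_of_norm hv.2]
    · rw [← conj_conj, zl_conj hv.2]

/-- `Const L W`, `L F = I` ⟹ KEY -/
theorem key_of_const {B L : Subgroup G} (bh : NOThreeL.Low.Key.BH V F B) (hL : L ≤ V ⊓ B) (hLF : L ⊔ F = V ⊓ B)
    (hc : NOThreeL.NF.NatR.Const L (NOne.Flat.WW V F)) : Key V F B := by
  refine KeyRad.key_of_root bh fun r hr hrF r' hr' hrF' s hs => ?_
  rw [← hLF] at hr hr'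
  have hF : F ≤ normalizer (L : Set G) := by
    have h11 : F ≤ centralizer (L : Set G) := fun f hf => mem_centralizer_iff.2 fun x hx =>
      bh.toHyp.V_comm (hL hx).1 (bh.toHyp.F_le_V hf)
    exact h11.trans (centralizer_le_normalizer _)
  obtain ⟨l, hl, f, hf, rfl⟩ := Pas.mem_sup_of_norm hF hr
  obtain ⟨l', hl', f', hf', rfl⟩ := Pas.mem_sup_of_norm hF hr'
  have hcf : ∀ l f s : G, f ∈ F → s ∈ NOne.Flat.WW V F → NOne.NearFF.c (l * f) s = NOne.NearFF.c l s := by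
    intro l f s hf hs
    have h12 : f * s = s * f := NOne.Flat.Hyp.F_comm hf (NOne.Flat.Hyp.W_le_X hs)
    rw [NOne.NearFF.c, NOne.NearFF.c]
    calc l * f * s * (l * f)⁻¹ * s⁻¹ = l * (f * s) * f⁻¹ * l⁻¹ * s⁻¹ := by group
      _ = l * (s * f) * f⁻¹ * l⁻¹ * s⁻¹ := by rw [h12]
      _ = _ := by group
  have key : ∀ l f : G, l ∈ L → f ∈ F → l * f ∉ F → l ∉ centralizer (NOne.Flat.WW V F : Set G) := by
    intro l f hl hf h1 h12
    apply h1
    have h13 : l ∈ V ⊓ centralizer (NOne.Flat.WW V F : Set G) := ⟨(hL hl).1, h12⟩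
    rw [bh.toHyp.cent_VW] at h13
    exact mul_mem h13 hf
  obtain ⟨t, ht, e⟩ := hc l hl (key l f hl hf hrF) l' hl' (key l' f' hl' hf' hrF') s hs
  refine ⟨t, ht, ?_⟩
  rw [hcf _ _ _ hf' ht, hcf _ _ _ hf hs, NOne.NearFF.c_def, NOne.NearFF.c_def]
  have e1 : l * s * l⁻¹ * s⁻¹ = (s * l * s⁻¹ * l⁻¹)⁻¹ := by group
  have e2 : l' * t * l'⁻¹ * t⁻¹ = (t * l' * t⁻¹ * l'⁻¹)⁻¹ := by group
  rw [e1, e2, e]

/-- **constant commutators on `L₁` give the KEY** -/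
theorem Fnt.key_of_const (h : Fnt S P P₁ V F n) (hFF : StmtM.{u})
    (hlow : ∀ Q, IsParS (S : Subgroup G) Q → zl (S : Subgroup G) Q ≤ o2 (CZ (S : Subgroup G)))
    (hcv : cv (S : Subgroup G) P = ⊥) (act : ¬ NOne.Flat.WW V F ≤ o2 P₁) {g : G} {R : Subgroup G}
    (hg : ChT (TT (S : Subgroup G) P P₁) (P ⊔ P₁) (S : Subgroup G) (NOne.Flat.WW V F) n g)
    (hR : R ∈ TT (S : Subgroup G) P P₁) (hbad : ¬ MulAut.conj g • zl (S : Subgroup G) R ≤ EE V F)
    (hc : NOThreeL.NF.NatR.Const (zl (S : Subgroup G) P₁) (NOne.Flat.WW V F)) :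
    Key V F (BF (TT (S : Subgroup G) P P₁) (P ⊔ P₁) (S : Subgroup G) V n F) := by
  rcases h.key_or hFF hlow hcv act hg hR hbad with h1 | ⟨h1, -, h3, -⟩
  · exact h1
  · have so := h.so act
    obtain ⟨K, fK, fiK, cK, k, -, hK, ⟨M⟩⟩ := h3
    have hoff : OffM (zl (S : Subgroup G) P₁) (NOne.Flat.WW V F) :=
      offM_of_le h.hyp (so.L_le_I.trans so.toBH.I_le_E) so.mov
    obtain ⟨-, -, h4, -⟩ := KeyRad.ns h.bh (ThmB.Inst.nb h.fr.hc h.par₁ M) hK so.L_le_I h1.le h.WS hoff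
    exact SOne.key_of_const h.bh so.L_le_I h4 hc

end Cfsg.Agent.Omega.NO3S.SOne
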