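import Cfsg.Agent.Mrg.Omega.NO3S.Pas.Inst
import Mathlib

section


/-!
# GammaFF, (S1) (#21629): the fields `gen` and `dis` of `NT` for natural modules with a radical

`M : NatKM F S P (zl S P) D k`, `D = cv S P` arbitrary.

* `le_of_lo` : `S ≤ K ≤ P` contains an element acting as `lo 1` on one summand and trivially on `D`: `K = P`;
* `exists_gen` : a generic element (the Weyl element of the summand of `A`);
* `RR_inf` : `RR S P A ⊓ cv S P = ⊥`.
-/

set_option autoImplicit false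
set_option linter.unusedSectionVars false

namespace Cfsg.Agent.Omega.NO3S.SOne.NatD

open Subgroup Cfsg Cfsg.Agent.ZN Cfsg.Agent.ZN.ChoiceBase Cfsg.Agent.Omega.MinPar
open Cfsg.Agent.Omega.FFThm (ElemM OffM NoOverM ConclM NatKM ActsSL relIndex_le_iff)
open Cfsg.Agent.Omega.FrameFF (cv)
open Cfsg.Agent.Omega.NatPair (ap ap_mul ap_one ap_inv_ap ap_zero' ap_one' ext2 exists_ap ap_inj)
open Cfsg.Agent.Omega.NOThreeL.NF (MinOffM)
open Cfsg.Agent.Omega.NOThreeL.NF.NatR (Const ap_up ap_lo)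
open Cfsg.Agent.Lib.SL2Mat
open scoped commutatorElement Pointwise

universe u

variable {G : Type u} [Group G] {F : Type} [Field F] {k : ℕ}

/-- an element acting trivially on the coordinates other than `j` -/
theorem eq_mulSingle {S P V D : Subgroup G} {M : NatKM F S P V D k} {h : G}
    {B : Fin k → Matrix.SpecialLinearGroup (Fin 2) F} (hB : ∀ v ∈ V, ∀ i, M.e (h * v * h⁻¹) i = ap (B i) (M.e v i))
    {j : Fin k} (hfix : ∀ v ∈ V, M.e v j = 0 → M.e (h * v * h⁻¹) = M.e v) : B = Pi.mulSingle j (B j) := by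
  classical
  funext i
  by_cases hi : i = j
  · subst hi; rw [Pi.mulSingle_eq_same]
  · rw [Pi.mulSingle_eq_of_ne hi]
    refine ap_inj fun x => ?_
    obtain ⟨v, hv, hvi, hvj⟩ := exists_pt M i x
    have h1 := hB v hv i
    rw [hfix v hv (hvj j (Ne.symm hi)), hvi] at h1
    rw [← h1, ap_one]

/-- the elements of `K ≥ S` cover `SL₂(F)^k` as soon as one of them acts as `lo 1` on one summand -/
theorem le_of_lo [CharP F 2] {S P D K : Subgroup G} (M : NatKM F S P (zl S P) D k)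
    (hA : AmbD S P (zl S P) D) (hP : IsParS S P)
    (hSK : S ≤ K) (hKP : K ≤ P) {g : G} (hg : g ∈ K) {j : Fin k}
    (hac : ActsSL M.e (zl S P) D g (Pi.mulSingle j (lo 1))) : P ≤ K := by
  classical
  have hSP := hP.le
  refine NOThreeL.Low.eq_of_sup hP hSK hKP ?_
  set K' : Subgroup G := K ⊔ (P ⊓ centralizer (zl S P : Set G)) with hK'
  have hKK' : K ≤ K' := le_sup_left
  have hCK' : P ⊓ centralizer (zl S P : Set G) ≤ K' := le_sup_right
  have hK'P : K' ≤ P := _root_.sup_le hKP inf_le_left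
  let Γ : Subgroup (Fin k → Matrix.SpecialLinearGroup (Fin 2) F) :=
    { carrier := {B | ∃ m ∈ K', ActsSL M.e (zl S P) D m B}
      mul_mem' := by
        rintro B B' ⟨m, hm, hmB⟩ ⟨m', hm', hmB'⟩
        exact ⟨m * m', mul_mem hm hm', act_mul hA (hK'P hm') hmB hmB'⟩
      one_mem' := ⟨1, one_mem _, act_cent hA.DV (one_mem _)⟩
      inv_mem' := by
        rintro B ⟨m, hm, hmB⟩
        exact ⟨m⁻¹, inv_mem hm, act_inv hA (hK'P hm) hmB⟩ }
  have hup : ∀ i c, Pi.mulSingle i (up c) ∈ Γ := by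
    intro i c
    obtain ⟨t, ht, hac⟩ := M.unip (Pi.single i c)
    rw [single_up] at hac
    exact ⟨t, hKK' (hSK ht), hac⟩
  have hlo1 : Pi.mulSingle j (lo 1) ∈ Γ := ⟨g, hKK' hg, hac⟩
  -- an element of `P` acting as an element of `Γ` is in `K'`
  have hmem : ∀ h ∈ P, ∀ B, ActsSL M.e (zl S P) D h B → B ∈ Γ → h ∈ K' := by
    rintro h hh B hB ⟨m, hm, hmB⟩
    have h2 : m⁻¹ * h ∈ K' :=
      hCK' (mem_inf.2 ⟨mul_mem (inv_mem (hK'P hm)) hh, cent_of_same hA hh (hK'P hm) hB hmB⟩)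
    have h3 := mul_mem hm h2
    rwa [mul_inv_cancel_left] at h3
  -- the summand `j`
  have hw : (Pi.mulSingle j (wm (1 : F) one_ne_zero) : Fin k → Matrix.SpecialLinearGroup (Fin 2) F) ∈ Γ := by
    have h1 : wm (1 : F) one_ne_zero = lo 1 * up 1 * lo 1 := by
      rw [wm_eq, inv_one, CharTwo.neg_eq]
    rw [h1, Pi.mulSingle_mul, Pi.mulSingle_mul]
    exact mul_mem (mul_mem hlo1 (hup j 1)) hlo1
  have hlo : ∀ c, Pi.mulSingle j (lo c) ∈ Γ := by
    intro c
    have h1 : lo c = wm (1 : F) one_ne_zero * up (-c) * (wm (1 : F) one_ne_zero)⁻¹ := by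
      rw [wm_up, mul_inv_cancel_right]
      congr 1
      ring
    rw [h1, Pi.mulSingle_mul, Pi.mulSingle_mul, Pi.mulSingle_inv]
    exact mul_mem (mul_mem hw (hup j _)) (inv_mem hw)
  have hj : ∀ B, Pi.mulSingle j B ∈ Γ := by
    intro B
    obtain ⟨a, b, c, d, h1⟩ := exists_up_lo B
    rw [h1, Pi.mulSingle_mul, Pi.mulSingle_mul, Pi.mulSingle_mul]
    exact mul_mem (mul_mem (mul_mem (hup j a) (hlo b)) (hup j c)) (hlo d)
  -- all summands
  have hall : ∀ i B, Pi.mulSingle i B ∈ Γ := by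
    intro i B
    obtain ⟨t, ht, htr⟩ := M.trans j i
    obtain ⟨h, hh, hB⟩ := M.lift (Pi.mulSingle i B)
    have htP := hSP ht
    have h1 : t⁻¹ * h * t ∈ P := mul_mem (mul_mem (inv_mem htP) hh) htP
    obtain ⟨B', hB'⟩ := M.norm t⁻¹ (inv_mem htP) h hh _ hB.1
    have hB'' : ∀ v ∈ zl S P, ∀ i', M.e (t⁻¹ * h * t * v * (t⁻¹ * h * t)⁻¹) i' = ap (B' i') (M.e v i') := by
      intro v hv i'
      have h2 := hB' v hv i'
      rwa [inv_inv] at h2
    have hfix : ∀ v ∈ zl S P, M.e v j = 0 → M.e (t⁻¹ * h * t * v * (t⁻¹ * h * t)⁻¹) = M.e v := by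
      intro v hv h0
      have hv' : t * v * t⁻¹ ∈ zl S P := hA.cm htP hv
      have h3 : M.e (t * v * t⁻¹) i = 0 := (htr v hv).2 h0
      have h4 : M.e (h * (t * v * t⁻¹) * h⁻¹) = M.e (t * v * t⁻¹) := by
        funext i'
        rw [hB.1 _ hv' i']
        by_cases hi' : i' = i
        · subst hi'
          rw [Pi.mulSingle_eq_same, h3]
          refine ext2 ?_ ?_
          · rw [ap_zero']; simp
          · rw [ap_one']; simp
        · rw [Pi.mulSingle_eq_of_ne hi', ap_one]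
      rw [e_eq_iff (hA.cm hh hv') hv'] at h4
      rw [e_eq_iff (hA.cm h1 hv) hv]
      have h5 := hA.cmD (inv_mem htP) h4
      have e1 : t⁻¹ * (h * (t * v * t⁻¹) * h⁻¹ * (t * v * t⁻¹)⁻¹) * t⁻¹⁻¹ =
        t⁻¹ * h * t * v * (t⁻¹ * h * t)⁻¹ * v⁻¹ := by group
      rwa [e1] at h5
    have h5 := eq_mulSingle hB'' hfix
    have hact : ActsSL M.e (zl S P) D (t⁻¹ * h * t) (Pi.mulSingle j (B' j)) := by
      rw [← h5]
      refine ⟨hB'', fun d hd => ?_⟩
      have h6 := hB.2 _ (hA.cmD htP hd)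
      calc t⁻¹ * h * t * d = t⁻¹ * (h * (t * d * t⁻¹)) * t := by group
        _ = t⁻¹ * (t * d * t⁻¹ * h) * t := by rw [h6]
        _ = d * (t⁻¹ * h * t) := by group
    have h6 : t⁻¹ * h * t ∈ K' := hmem _ h1 _ hact (hj _)
    have h7 : h ∈ K' := by
      have h8 := mul_mem (mul_mem (hKK' (hSK ht)) h6) (inv_mem (hKK' (hSK ht)))
      have e2 : t * (t⁻¹ * h * t) * t⁻¹ = h := by group
      rwa [e2] at h8
    exact ⟨h, h7, hB⟩
  have hΓ : ∀ B, B ∈ Γ := fun B => pi_mem_of_mulSingle_mem B fun i => hall i (B i)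
  exact M.gen K' (hSK.trans hKK') fun h hh A hA' => hmem h hh A hA' (hΓ A)

/-- **the field `gen` of `NT`** -/
theorem exists_gen [Finite G] [Finite F] [CharP F 2] {S P : Subgroup G} (M : NatKM F S P (zl S P) (cv S P) k)
    (hA : AmbD S P (zl S P) (cv S P)) (hP : IsParS S P) {A : Subgroup G} (hmin : MinOffM (zl S P) S A)
    (hc : Const (zl S P) A) : ∃ p, Gen S P A p := by
  classical
  have hSP := hP.le
  obtain ⟨i, hr⟩ := One.of_min hA M hmin
  obtain ⟨g, hg, hgac⟩ := M.lift (Pi.mulSingle i (wm 1 one_ne_zero))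
  have hAP : A ≤ P := hmin.le.trans hSP
  refine ⟨g⁻¹, inv_mem hg, ?_, ?_⟩
  · rw [inv_inv]
    obtain ⟨a, ha, hac⟩ := hr.ex (-1)
    have haP := hAP ha
    have h1 := act_mul hA (inv_mem hg) (act_mul hA haP hgac hac) (act_inv hA hg hgac)
    have e1 : (Pi.mulSingle i (wm 1 one_ne_zero) : Fin k → Matrix.SpecialLinearGroup (Fin 2) F) *
        Pi.mulSingle i (up (-1)) * (Pi.mulSingle i (wm 1 one_ne_zero))⁻¹ = Pi.mulSingle i (lo 1) := by
      rw [← Pi.mulSingle_mul, ← Pi.mulSingle_inv, ← Pi.mulSingle_mul]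
      congr 1
      rw [wm_up, mul_inv_cancel_right]
      congr 1
      ring
    rw [e1] at h1
    refine le_of_lo M hA hP le_sup_left (_root_.sup_le hSP ?_)
      ((le_sup_right : MulAut.conj g • A ≤ _) (NOne.Frame.conj_mem ha)) h1
    rintro _ ⟨x, hx, rfl⟩
    exact mul_mem (mul_mem hg (hAP hx)) (inv_mem hg)
  · intro x hx hcx hpx
    have hpe := comm_e (M := M) hA hr hpx
    have h1 : ∀ j, M.e x j 1 = 0 := by
      intro j
      obtain ⟨t, ht, hrt⟩ := exists_one hA M hmin j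
      refine hrt.zero_of_cent hx ?_
      rw [mem_centralizer_iff]
      intro y hy
      have h2 : y ∈ centralizer ({x} : Set G) := hcx t ht hy
      exact mem_centralizer_singleton_iff.1 h2
    have hac' := act_inv hA hg hgac
    have h2 : ∀ j, M.e (g⁻¹ * x * g⁻¹⁻¹) j = ap ((Pi.mulSingle i (wm 1 one_ne_zero) :
        Fin k → Matrix.SpecialLinearGroup (Fin 2) F)⁻¹ j) (M.e x j) := hac'.1 x hx
    have hx0 : M.e x = 0 := by
      funext j
      by_cases hj : j = i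
      · subst hj
        have h3 := hpe.2.1
        rw [h2 j] at h3
        have h4 : ap (wm (1 : F) one_ne_zero) (ap ((Pi.mulSingle j (wm 1 one_ne_zero) :
          Fin k → Matrix.SpecialLinearGroup (Fin 2) F)⁻¹ j) (M.e x j)) = M.e x j := by
          rw [Pi.inv_apply, Pi.mulSingle_eq_same, ← ap_mul, mul_inv_cancel, ap_one]
        refine ext2 ?_ (h1 j)
        rw [← h4, ap_zero', h3, wm_00]
        simp
      · have h3 := hpe.2.2 j hj
        rw [h2 j, Pi.inv_apply, Pi.mulSingle_eq_of_ne hj, inv_one, ap_one] at h3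
        rw [h3]
        rfl
    have hxD : x ∈ cv S P := (M.ker x hx).1 hx0
    have h5 : g⁻¹ * x * g⁻¹⁻¹ = x := by
      rw [hac'.2 x hxD, mul_inv_cancel_right]
    have h6 : x ∈ (⁅zl S P, A⁆ : Subgroup G) ⊓ cv S P := ⟨by rw [← h5]; exact hpx, hxD⟩
    rw [comm_inf (M := M) hA hr hmin.off hc] at h6
    exact mem_bot.1 h6

/-- **the field `dis` of `NT`** -/
theorem RR_inf [Finite G] [Finite F] {S P : Subgroup G} (M : NatKM F S P (zl S P) (cv S P) k)
    (hA : AmbD S P (zl S P) (cv S P)) {A : Subgroup G} (hmin : MinOffM (zl S P) S A)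
    (hc : Const (zl S P) A) : RR S P A ⊓ cv S P = ⊥ := by
  classical
  have hSV : S ≤ normalizer (zl S P : Set G) := hA.SP.trans hA.PV
  obtain ⟨i, hr⟩ := One.of_min hA M hmin
  choose t ht hrt using exists_one hA M hmin
  set Rj : Fin k → Subgroup G := fun j => ⁅zl S P, MulAut.conj (t j) • A⁆ with hRj
  have hconj : ∀ s ∈ S, MulAut.conj s • (⁅zl S P, A⁆ : Subgroup G) = ⁅zl S P, MulAut.conj s • A⁆ :=
    fun s hs => (NOThreeL.NF.NatR.comm_cj s (hSV hs)).symm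
  have hRR : RR S P A ≤ ⨆ j, Rj j := by
    refine iSup_le fun s => ?_
    rw [hconj s s.2]
    obtain ⟨j, hj⟩ := One.of_min hA M (NOThreeL.NF.NatR.minOffM_cj hSV hmin s.2)
    have h1 : (⁅zl S P, MulAut.conj (s : G) • A⁆ : Subgroup G) = Rj j := hj.comm_same hA (hrt j)
    rw [h1]
    exact le_iSup Rj j
  have hinf : ∀ j, ∀ x ∈ Rj j, x ∈ cv S P → x = 1 := by
    intro j x hx hxD
    have h1 : x ∈ MulAut.conj (t j) • (⁅zl S P, A⁆ : Subgroup G) := by rw [hconj _ (ht j)]; exact hx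
    obtain ⟨y, hy, hyx⟩ := h1
    have hyx' : t j * y * (t j)⁻¹ = x := hyx
    have h2 := hA.cmD (inv_mem (hA.SP (ht j))) hxD
    have e : (t j)⁻¹ * x * (t j)⁻¹⁻¹ = y := by rw [← hyx']; group
    rw [e] at h2
    have h3 : y ∈ (⁅zl S P, A⁆ : Subgroup G) ⊓ cv S P := ⟨hy, h2⟩
    rw [comm_inf (M := M) hA hr hmin.off hc] at h3
    rw [← hyx', mem_bot.1 h3, mul_one, mul_inv_cancel]
  have hRje : ∀ j, ∀ x ∈ Rj j, x ∈ zl S P ∧ ∀ l, l ≠ j → M.e x l = 0 := fun j x hx =>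
    ⟨(comm_e hA (hrt j) hx).1, (comm_e hA (hrt j) hx).2.2⟩
  have key : ∀ J : Finset (Fin k), ∀ x ∈ (⨆ j ∈ J, Rj j), x ∈ zl S P ∧ (∀ l, l ∉ J → M.e x l = 0) ∧
      (x ∈ cv S P → x = 1) := by
    intro J
    induction J using Finset.induction_on with
    | empty =>
      intro x hx
      have h1 : x = 1 := by simpa using hx
      rw [h1]
      exact ⟨one_mem _, fun l _ => by rw [e_one]; rfl, fun _ => rfl⟩
    | insert a J' ha ih =>
      intro x hx
      rw [Finset.iSup_insert] at hx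
      have hR'V : (⨆ j ∈ J', Rj j) ≤ zl S P := fun y hy => (ih y hy).1
      have hn : Rj a ≤ normalizer ((⨆ j ∈ J', Rj j : Subgroup G) : Set G) := by
        intro y hy
        have hyV := (hRje a y hy).1
        refine mem_normalizer_iff.2 fun z => ?_
        constructor
        · intro hz
          rw [hA.ab y hyV z (hR'V hz), mul_inv_cancel_right]; exact hz
        · intro hz
          have h1 : z = y * z * y⁻¹ := by
            have h2 := hA.ab y⁻¹ (inv_mem hyV) _ (hR'V hz)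
            calc z = y⁻¹ * (y * z * y⁻¹) * y := by group
              _ = y * z * y⁻¹ * y⁻¹ * y := by rw [h2]
              _ = y * z * y⁻¹ := by group
          rw [h1]; exact hz
      have hx' : x ∈ ((Rj a ⊔ ⨆ j ∈ J', Rj j : Subgroup G) : Set G) := hx
      rw [coe_mul_of_left_le_normalizer_right _ _ hn] at hx'
      obtain ⟨y, hy, z, hz, rfl⟩ := hx'
      obtain ⟨hyV, hye⟩ := hRje a y hy
      obtain ⟨hzV, hze, hz1⟩ := ih z hz
      dsimp only
      refine ⟨mul_mem hyV hzV, fun l hl => ?_, fun hD => ?_⟩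
      · rw [Finset.mem_insert, not_or] at hl
        rw [M.mul y hyV z hzV, Pi.add_apply, hye l hl.1, hze l hl.2, add_zero]
      · have h1 := (M.ker _ (mul_mem hyV hzV)).2 hD
        rw [M.mul y hyV z hzV] at h1
        have hy0 : M.e y = 0 := by
          funext l
          by_cases hl : l = a
          · subst hl
            have h2 := congrFun h1 l
            rw [Pi.add_apply, hze l ha, add_zero] at h2
            exact h2
          · exact hye l hl
        have hyD : y ∈ cv S P := (M.ker y hyV).1 hy0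
        have hy1 := hinf a y hy hyD
        rw [hy1, one_mul] at hD ⊢
        exact hz1 hD
  refine eq_bot_iff.2 fun x hx => mem_bot.2 ?_
  have h1 := hRR hx.1
  have h2 : x ∈ ⨆ j ∈ (Finset.univ : Finset (Fin k)), Rj j := by simpa using h1
  exact (key _ x h2).2.2 hx.2

end Cfsg.Agent.Omega.NO3S.SOne.NatD

end

section


/-!
# LEMMA PAR (the parity argument for `q₀ = 2` in (S1) of GammaFF; bb OMEGA, helper480)

`V` elementary abelian (only: commutative), normalised by `P` and `P₁`, `C_V(P) = 1`; `𝒲` is a set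
of pairs `(W',r)` (a subgroup and its centre `r ∈ V`) closed under conjugation by `⟨P,P₁⟩`.
`P` is passive: `W' ≤ S` implies `W'^p ≤ S`.  If `W' ≤ S` is active for `P₁` (`W' ≰ Q₁`) then its
centre is an `S`-conjugate of `r₁`.  Some `g₀ ∈ P₁` moves `r₁` and fixes all other `S`-conjugates.
Contradiction.
-/

set_option linter.unusedSectionVars false

open scoped Pointwise Classical
open MulAut

namespace Cfsg.Agent.Omega.NO3S.SOne.Par

universe u

variable {G : Type u} [Group G] [Finite G]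

/-- conjugation of a pair. -/
def cp (g : G) (θ : Subgroup G × G) : Subgroup G × G := (conj g • θ.1, g * θ.2 * g⁻¹)

theorem cp_mul (g h : G) (θ : Subgroup G × G) : cp (g * h) θ = cp g (cp h θ) := by
  unfold cp
  refine Prod.ext ?_ ?_
  · simp only [map_mul, mul_smul]
  · simp only [mul_inv_rev, mul_assoc]

theorem cp_one (θ : Subgroup G × G) : cp 1 θ = θ := by
  unfold cp
  refine Prod.ext ?_ ?_
  · simp
  · simp

theorem cp_inj (g : G) : Function.Injective (cp g) := by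
  intro a b h
  have h2 := congrArg (cp g⁻¹) h
  rwa [← cp_mul, ← cp_mul, inv_mul_cancel, cp_one, cp_one] at h2

/-- the group generated by all `W' ≤ S` with centre `r`. -/
def gen (𝒲 : Set (Subgroup G × G)) (S : Subgroup G) (r : G) : Subgroup G :=
  sSup {W | (W, r) ∈ 𝒲 ∧ W ≤ S}

theorem gen_le (𝒲 : Set (Subgroup G × G)) (S : Subgroup G) (r : G) : gen 𝒲 S r ≤ S :=
  sSup_le fun _ h => h.2

theorem le_gen {𝒲 : Set (Subgroup G × G)} {S W : Subgroup G} {r : G} (h : (W, r) ∈ 𝒲) (hS : W ≤ S) :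
    W ≤ gen 𝒲 S r := le_sSup ⟨h, hS⟩

theorem conj_gen_le {𝒲 : Set (Subgroup G × G)} {S : Subgroup G} {r : G} {K : Subgroup G} {g : G}
    (h : ∀ W, (W, r) ∈ 𝒲 → W ≤ S → conj g • W ≤ K) : conj g • gen 𝒲 S r ≤ K := by
  rw [Subgroup.pointwise_smul_subset_iff]
  refine sSup_le fun W hW => ?_
  rw [← Subgroup.pointwise_smul_subset_iff]
  exact h W hW.1 hW.2

/-- the commutative group `V`. -/
abbrev cgr (V : Subgroup G) (hVc : ∀ x ∈ V, ∀ y ∈ V, x * y = y * x) : CommGroup V :=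
  { (inferInstance : Group V) with mul_comm := fun a b => Subtype.ext (hVc a a.2 b b.2) }

/-- the product of the centres over a finite set of pairs (in the commutative group `V`). -/
noncomputable def pr (V : Subgroup G) (hVc : ∀ x ∈ V, ∀ y ∈ V, x * y = y * x)
    (T : Finset (Subgroup G × G)) : V :=
  let _ := cgr V hVc
  ∏ θ ∈ T, if h : θ.2 ∈ V then (⟨θ.2, h⟩ : V) else 1

/-- conjugation by `g ∈ N(V)` on `V`. -/
def cj {V : Subgroup G} (g : G) (hg : g ∈ Subgroup.normalizer (V : Set G)) : V →* V where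
  toFun v := ⟨g * v * g⁻¹, (Subgroup.mem_normalizer_iff.1 hg v).1 v.2⟩
  map_one' := by ext; simp
  map_mul' a b := by ext; simp [mul_assoc]

theorem cj_pr {V : Subgroup G} (hVc : ∀ x ∈ V, ∀ y ∈ V, x * y = y * x) {g : G}
    (hg : g ∈ Subgroup.normalizer (V : Set G))
    {T : Finset (Subgroup G × G)} (hT : ∀ θ ∈ T, cp g θ ∈ T) : cj g hg (pr V hVc T) = pr V hVc T := by
  let _ := cgr V hVc
  unfold pr
  rw [map_prod]
  have himg : T.image (cp g) = T := by
    apply Finset.eq_of_subset_of_card_le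
    · intro θ hθ
      obtain ⟨η, hη, rfl⟩ := Finset.mem_image.1 hθ
      exact hT η hη
    · rw [Finset.card_image_of_injective _ (cp_inj g)]
  conv_rhs => rw [← himg]
  rw [Finset.prod_image (fun a _ b _ h => cp_inj g h)]
  refine Finset.prod_congr rfl fun θ _ => ?_
  have hiff : (cp g θ).2 ∈ V ↔ θ.2 ∈ V := (Subgroup.mem_normalizer_iff.1 hg θ.2).symm
  by_cases h : θ.2 ∈ V
  · rw [dif_pos h, dif_pos (hiff.2 h)]
    rfl
  · rw [dif_neg h, dif_neg (fun h' => h (hiff.1 h')), map_one]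

/-- **LEMMA PAR.** -/
theorem par {S P P₁ Q₁ V : Subgroup G} (hVc : ∀ x ∈ V, ∀ y ∈ V, x * y = y * x)
    (hPV : P ≤ Subgroup.normalizer (V : Set G)) (hP₁V : P₁ ≤ Subgroup.normalizer (V : Set G))
    (hSP : S ≤ P) (hQn : ∀ g ∈ P₁, conj g • Q₁ ≤ Q₁) (hQS : Q₁ ≤ S)
    (hCP : ∀ v ∈ V, (∀ p ∈ P, p * v * p⁻¹ = v) → v = 1)
    (𝒲 : Set (Subgroup G × G)) (hV : ∀ w ∈ 𝒲, w.2 ∈ V)
    (hconj : ∀ w ∈ 𝒲, ∀ g ∈ P ⊔ P₁, cp g w ∈ 𝒲)
    (h1 : ∀ w ∈ 𝒲, w.1 ≤ S → ∀ p ∈ P, conj p • w.1 ≤ S)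
    {W₁ : Subgroup G} {r₁ : G} (hw : (W₁, r₁) ∈ 𝒲) (hW₁S : W₁ ≤ S) (hW₁Q : ¬ W₁ ≤ Q₁)
    (h2 : ∀ w ∈ 𝒲, w.1 ≤ S → ¬ w.1 ≤ Q₁ → ∃ s ∈ S, w.2 = s * r₁ * s⁻¹)
    {g₀ : G} (hg₀ : g₀ ∈ P₁) (hmv : g₀ * r₁ * g₀⁻¹ ≠ r₁)
    (hfx : ∀ s ∈ S, s * r₁ * s⁻¹ ≠ r₁ → g₀ * (s * r₁ * s⁻¹) * g₀⁻¹ = s * r₁ * s⁻¹) : False := by
  let _ := cgr V hVc
  set D₁ : Subgroup G := gen 𝒲 S r₁ with hD₁
  set Y : Subgroup G := P ⊔ P₁ with hY
  have hPY : P ≤ Y := le_sup_left
  have hP₁Y : P₁ ≤ Y := le_sup_right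
  -- the orbit
  let Θ : Set (Subgroup G × G) := {θ | (∃ y ∈ Y, θ = cp y (D₁, r₁)) ∧ θ.1 ≤ S}
  have hfin : Θ.Finite := Set.toFinite _
  let T : Finset (Subgroup G × G) := hfin.toFinset
  have hT : ∀ θ, θ ∈ T ↔ (∃ y ∈ Y, θ = cp y (D₁, r₁)) ∧ θ.1 ≤ S := fun θ => hfin.mem_toFinset
  -- generators of a member
  have hgen : ∀ y ∈ Y, ∀ K : Subgroup G, ∀ g ∈ Y, (∀ W r, (W, r) ∈ 𝒲 → r = y * r₁ * y⁻¹ →
      W ≤ conj y • D₁ → conj g • W ≤ K) → conj g • (conj y • D₁) ≤ K := by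
    intro y hy K g hg H
    rw [← mul_smul, ← map_mul]
    refine conj_gen_le fun W hW hWS => ?_
    rw [map_mul, mul_smul]
    refine H (conj y • W) (y * r₁ * y⁻¹) (hconj _ hW y hy) rfl ?_
    exact Subgroup.pointwise_smul_le_pointwise_smul_iff.2 (le_gen hW hWS)
  -- `P` permutes `T`
  have hPT : ∀ p ∈ P, ∀ θ ∈ T, cp p θ ∈ T := by
    intro p hp θ hθ
    obtain ⟨⟨y, hy, rfl⟩, hS⟩ := (hT _).1 hθ
    refine (hT _).2 ⟨⟨p * y, Y.mul_mem (hPY hp) hy, (cp_mul _ _ _).symm⟩, ?_⟩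
    exact hgen y hy S p (hPY hp) fun W r hW _ hle => h1 _ hW (hle.trans hS) p hp
  -- `P₁` permutes the members in `Q₁`
  let T₁ : Finset (Subgroup G × G) := T.filter fun θ => θ.1 ≤ Q₁
  let T₂ : Finset (Subgroup G × G) := T.filter fun θ => ¬ θ.1 ≤ Q₁
  have hP₁T : ∀ g ∈ P₁, ∀ θ ∈ T₁, cp g θ ∈ T₁ := by
    intro g hg θ hθ
    obtain ⟨hθT, hθQ⟩ := Finset.mem_filter.1 hθ
    obtain ⟨⟨y, hy, rfl⟩, hS⟩ := (hT _).1 hθT
    have hle : conj g • (conj y • D₁) ≤ Q₁ :=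
      (Subgroup.pointwise_smul_le_pointwise_smul_iff.2 hθQ).trans (hQn g hg)
    exact Finset.mem_filter.2 ⟨(hT _).2 ⟨⟨g * y, Y.mul_mem (hP₁Y hg) hy, (cp_mul _ _ _).symm⟩, hle.trans hQS⟩, hle⟩
  -- the products
  have hprT : pr V hVc T = 1 := by
    have := hCP (pr V hVc T : V) (pr V hVc T).2 fun p hp => by
      have h := cj_pr hVc (hPV hp) (hPT p hp)
      exact congrArg Subtype.val h
    exact Subtype.ext this
  have hsplit : pr V hVc T = pr V hVc T₁ * pr V hVc T₂ := by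
    unfold pr
    exact (Finset.prod_filter_mul_prod_filter_not T (fun θ => θ.1 ≤ Q₁) _).symm
  have hfix₁ : cj g₀ (hP₁V hg₀) (pr V hVc T₁) = pr V hVc T₁ := cj_pr hVc _ (hP₁T g₀ hg₀)
  have hfix₂ : cj g₀ (hP₁V hg₀) (pr V hVc T₂) = pr V hVc T₂ := by
    have h : pr V hVc T₂ = (pr V hVc T₁)⁻¹ := by
      rw [eq_inv_iff_mul_eq_one, mul_comm, ← hsplit, hprT]
    rw [h, map_inv, hfix₁]
  -- members of `T₂`
  have hT₂ : ∀ θ ∈ T₂, ∃ s ∈ S, θ = cp s (D₁, r₁) := by
    intro θ hθ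
    obtain ⟨hθT, hθQ⟩ := Finset.mem_filter.1 hθ
    obtain ⟨⟨y, hy, rfl⟩, hS⟩ := (hT _).1 hθT
    have hex : ∃ s ∈ S, y * r₁ * y⁻¹ = s * r₁ * s⁻¹ := by
      by_contra hne
      apply hθQ
      have := hgen y hy Q₁ 1 Y.one_mem fun W r hW hr hle => ?_
      · rwa [map_one, one_smul] at this
      · rw [map_one, one_smul]
        by_contra hWQ
        obtain ⟨s, hs, h⟩ := h2 _ hW (hle.trans hS) hWQ
        exact hne ⟨s, hs, hr.symm.trans h⟩
    obtain ⟨s, hs, hr⟩ := hex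
    refine ⟨s, hs, Prod.ext ?_ hr⟩
    have hsY : s ∈ Y := hPY (hSP hs)
    have hle : conj s⁻¹ • (conj y • D₁) ≤ D₁ := by
      refine hgen y hy D₁ s⁻¹ (Y.inv_mem hsY) fun W r hW hr' hle => ?_
      have h3 : (conj s⁻¹ • W, r₁) ∈ 𝒲 := by
        have h4 := hconj _ hW s⁻¹ (Y.inv_mem hsY)
        have h5 : cp s⁻¹ (W, r) = (conj s⁻¹ • W, r₁) := by
          refine Prod.ext rfl ?_
          change s⁻¹ * r * s⁻¹⁻¹ = r₁
          rw [hr', hr]
          group
        rwa [h5] at h4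
      refine le_gen h3 ?_
      rw [Subgroup.pointwise_smul_subset_iff, ← map_inv, inv_inv]
      have h6 : conj s • S = S := by
        ext x
        rw [Subgroup.mem_pointwise_smul_iff_inv_smul_mem, ← map_inv, MulAut.smul_def, conj_apply, inv_inv]
        constructor
        · intro hx
          have := S.mul_mem (S.mul_mem hs hx) (S.inv_mem hs)
          simpa [mul_assoc] using this
        · intro hx
          exact S.mul_mem (S.mul_mem (S.inv_mem hs) hx) hs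
      rw [h6]
      exact hle.trans hS
    have hcard : Nat.card (conj s⁻¹ • (conj y • D₁) : Subgroup G) = Nat.card D₁ := by
      rw [← mul_smul, ← map_mul]
      exact Nat.card_congr (Subgroup.equivSMul (conj (s⁻¹ * y)) D₁).toEquiv.symm
    have heq : conj s⁻¹ • (conj y • D₁) = D₁ := Subgroup.eq_of_le_of_card_ge hle hcard.ge
    change conj y • D₁ = conj s • D₁
    conv_rhs => rw [← heq]
    rw [smul_smul (conj s), ← map_mul, mul_inv_cancel, map_one, one_smul]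
  have hmem : ((D₁, r₁) : Subgroup G × G) ∈ T₂ := by
    refine Finset.mem_filter.2 ⟨(hT _).2 ⟨⟨1, Y.one_mem, (cp_one _).symm⟩, gen_le _ _ _⟩, fun h => ?_⟩
    exact hW₁Q ((le_gen hw hW₁S).trans h)
  have huniq : ∀ θ ∈ T₂, θ.2 = r₁ → θ = (D₁, r₁) := by
    intro θ hθ hr
    obtain ⟨s, hs, rfl⟩ := hT₂ θ hθ
    refine Prod.ext ?_ hr
    have hle : conj s • D₁ ≤ D₁ := by
      refine conj_gen_le fun W hW hWS => ?_
      have h3 : (conj s • W, r₁) ∈ 𝒲 := by
        have h4 := hconj _ hW s (hPY (hSP hs))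
        have h5 : cp s (W, r₁) = (conj s • W, r₁) := Prod.ext rfl hr
        rwa [h5] at h4
      exact le_gen h3 (le_trans (le_trans (Subgroup.pointwise_smul_le_pointwise_smul_iff.2 (le_gen hW hWS)) le_rfl)
        ((Finset.mem_filter.1 hθ).1 |> (hT _).1 |>.2))
    exact Subgroup.eq_of_le_of_card_ge hle (Nat.card_congr (Subgroup.equivSMul (conj s) D₁).toEquiv).le
  -- the end
  have hpr₂ : pr V hVc T₂ = (⟨r₁, hV _ hw⟩ : V) * pr V hVc (T₂.erase (D₁, r₁)) := by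
    unfold pr
    rw [← Finset.mul_prod_erase T₂ _ hmem, dif_pos (hV _ hw)]
  have hfix₃ : cj g₀ (hP₁V hg₀) (pr V hVc (T₂.erase (D₁, r₁))) = pr V hVc (T₂.erase (D₁, r₁)) := by
    unfold pr
    rw [map_prod]
    refine Finset.prod_congr rfl fun θ hθ => ?_
    obtain ⟨hne, hθ⟩ := Finset.mem_erase.1 hθ
    obtain ⟨s, hs, rfl⟩ := hT₂ θ hθ
    have hne' : s * r₁ * s⁻¹ ≠ r₁ := fun heq => hne (huniq _ hθ heq)
    by_cases h : (cp s (D₁, r₁)).2 ∈ V
    · rw [dif_pos h]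
      exact Subtype.ext (hfx s hs hne')
    · rw [dif_neg h, map_one]
  have h6 : cj g₀ (hP₁V hg₀) (⟨r₁, hV _ hw⟩ : V) = ⟨r₁, hV _ hw⟩ := by
    have := hfix₂
    rw [hpr₂, map_mul, hfix₃] at this
    exact mul_right_cancel this
  exact hmv (congrArg Subtype.val h6)

end Cfsg.Agent.Omega.NO3S.SOne.Par

end
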