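import Cfsg.Agent.Mrg.Omega.NO3S.SOne.KeyLe.Main
import Cfsg.Agent.Mrg.Omega.NO3S.SOne.KeyInst
import Cfsg.Agent.Mrg.Omega.NO3S.SOne.Bad
import Cfsg.Agent.Mrg.Omega.NO3S.Pas.Inst
import Cfsg.Agent.Mrg.Omega.NO3S.SOne.NTGen
import Cfsg.Agent.Mrg.Omega.NO3S.SOne.PU.Use
import Cfsg.Agent.Mrg.Omega.NO3S.GFF.S1.Four
import Cfsg.Agent.Mrg.Omega.NO3S.Fld.LevEnd

section


/-!
# GammaFF, (S1): the plug

* `nt` : `NT S P₁ q` from the natural module, radical allowed, `q ≥ 4`;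
* `so_false` : `SO`, KEY, the transitivity of `N_P(S)` on `Z#`, `C_Z(P₁) ≠ 1`, `C_Z(P) = 1`, passivity of `P` ⟹ `False`;
* `rad_false` : **(S1)**;
* `s1_const` : the local form, `q ≥ 4`, constant commutators.
-/

set_option autoImplicit false
set_option linter.unusedSectionVars false

namespace Cfsg.Agent.Omega.NO3S.SOne.PlugRad

open Subgroup Cfsg Cfsg.Agent.ZN Cfsg.Agent.Omega.MinPar
open Cfsg.Agent.Omega.NOne.Flat (EE NN)
open Cfsg.Agent.Omega.FFThm (ElemM OffM NoOverM StmtM ConclM NatKM SymKM)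
open Cfsg.Agent.Omega.FrameFF (cv)
open Cfsg.Agent.Omega.NO3S.Pas (Key)
open Cfsg.Agent.Omega.NO3S.Level (W0 WSt X0 M0 K0)
open Cfsg.Agent.Omega.NO3S.GFF.S1 (Rad RadW)
open scoped Pointwise

universe u

variable {G : Type u} [Group G] [Finite G] {S : Sylow 2 G} {P P₁ V F B : Subgroup G}

theorem nt (hG : IsCharacteristicTwoType G) (hP : IsParS (S : Subgroup G) P₁) {K : Type} [Field K] [Finite K] [CharP K 2]
    {k : ℕ} (M : NatKM K (S : Subgroup G) P₁ (zl (S : Subgroup G) P₁) (cv (S : Subgroup G) P₁) k) (h4 : 4 ≤ Nat.card K)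
    (no : NoOverM (zl (S : Subgroup G) P₁) P₁) : NT (S : Subgroup G) P₁ (Nat.card K) :=
  NTNat.nt_of hG hP M h4 no
    (fun _ hm hc => NatD.exists_gen M (NatD.AmbD.of hG hP M) hP hm hc)
    (fun _ hm hc => NatD.RR_inf M (NatD.AmbD.of hG hP M) hm hc)

theorem eq_zero_or_one {K : Type} [Field K] [Finite K] (h : Nat.card K = 2) (c : K) : c = 0 ∨ c = 1 := by
  classical
  have : Fintype K := Fintype.ofFinite K
  by_contra hcon
  push Not at hcon
  have h1 : ({0, 1, c} : Finset K).card ≤ Fintype.card K := Finset.card_le_univ _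
  rw [← Nat.card_eq_fintype_card, h, Finset.card_insert_of_notMem, Finset.card_insert_of_notMem,
    Finset.card_singleton] at h1
  · omega
  · rw [Finset.mem_singleton]
    exact fun h2 => hcon.2 h2.symm
  · rw [Finset.mem_insert, Finset.mem_singleton]
    rintro (h2 | h2)
    · exact zero_ne_one h2
    · exact hcon.1 h2.symm

/-- `SO` + KEY ⟹ `False` -/
theorem so_false (so : SO S V F B P P₁) (hk : Key V F B)
    (htr : ∀ x ∈ zc (S : Subgroup G), x ≠ 1 → ∀ y ∈ zc (S : Subgroup G), y ≠ 1 →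
      ∃ h ∈ P, h ∈ normalizer ((S : Subgroup G) : Set G) ∧ h * x * h⁻¹ = y)
    (hC : zc (S : Subgroup G) ⊓ centralizer (P₁ : Set G) ≠ ⊥)
    (hCP : zc (S : Subgroup G) ⊓ centralizer (P : Set G) = ⊥)
    (hpas : ∀ y ∈ P ⊔ P₁, MulAut.conj y • NOne.Flat.WW V F ≤ (S : Subgroup G) →
      MulAut.conj y • NOne.Flat.WW V F ≤ o2 P) : False := by
  have hff := FF.Glob.ffthmM G (S : Subgroup G) P₁ (MinSimple.EmptyTI.syl_of_le so.hP₁.le) so.hP₁.toIsMinPar
    (so.hP₁.isLoc.char2 S so.hc) ⟨_, so.WS.trans so.SP₁, (so.ka_one hk).off⟩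
  rcases hff.2 with ⟨K, fK, fiK, cK, k, hk0, ⟨M⟩⟩ | ⟨k, m, hk0, hm, ⟨M⟩⟩
  · by_cases h4 : 4 ≤ Nat.card K
    · exact so.false_of_NT hk (nt so.hc so.hP₁ M h4 hff.1) htr hC
    · have h3 : Nat.card K ≠ 3 := KeyRad.card_field_ne_three K
      have h2 : 1 < Nat.card K := Finite.one_lt_card
      have h5 : Nat.card K = 2 := by omega
      exact so.false_of_two hk (PU.two_of_nat so.hc so.hP₁ (eq_zero_or_one h5) M) hCP hpas
  · exact so.false_of_two hk (PU.two_of_sym so.hc so.hP₁ hm M) hCP hpas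

/-- **(S1)** -/
theorem rad_false (h : Rad S) (w : WSt S P₁ F) : False := by
  obtain ⟨P, hP, hPn⟩ := h.toHypC.ex
  have hPS : PSS (S : Subgroup G) P := ⟨hP, hPn⟩
  obtain ⟨n, f, so, g, Q, hg, hQ, hbad⟩ := exists_so (sg_of_rad h w hPS)
  have hk := KeyLe.key_fnt h w hPS f hg hQ hbad
  have rw' := h.radW w hPS
  refine so_false so hk ?_ (h.rad P₁ F w) rw'.hypN.toHyp.inf_eq_bot (pas_of_rad h w hPS)
  intro x hx hx1 y hy hy1
  exact rw'.tr x hx y hy hx1 hy1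

/-- `Two` ⟹ `|⁅L₁, W⁆| = 2` -/
theorem card_of_two (so : SO S V F B P P₁) (hk : Key V F B) (two : Two (S : Subgroup G) P₁) :
    Nat.card ↥⁅zl (S : Subgroup G) P₁, NOne.Flat.WW V F⁆ ≤ 2 := by
  obtain ⟨r, -, hr, -⟩ := two.pt _ (so.ka_one hk)
  have h1 : r ∈ V := by
    have h2 : r ∈ ⁅zl (S : Subgroup G) P₁, NOne.Flat.WW V F⁆ := by
      rw [hr]
      exact mem_zpowers r
    exact so.L_le_V (so.comm_le_L so.WS h2)
  rw [hr, Nat.card_zpowers]
  exact orderOf_le_of_pow_eq_one Nat.two_pos (so.toHyp.sq r h1)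

/-- **(S1), the local form**, `q ≥ 4`, constant commutators (mixed case). -/
theorem s1_const (w : RadW S P P₁ F) (hc : NOThreeL.NF.NatR.Const (zl (S : Subgroup G) P₁)
      (NOne.Flat.WW (X0 (S : Subgroup G)) F))
    (h4 : 4 ≤ Nat.card ↥⁅zl (S : Subgroup G) P₁, NOne.Flat.WW (X0 (S : Subgroup G)) F⁆) : False := by
  have sg : Sg S P P₁ F := { toWSt := w.toWSt, hz := w.hz, hP := w.pss, hp := w.hp }
  obtain ⟨n, f, so, g, Q, hg, hQ, hbad⟩ := exists_so sg
  have hk := f.key_of_const FF.Glob.ffthmM (fun Q hQ => w.low Q hQ) w.hypN.toHyp.cv w.mv hg hQ hbad hc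
  have hff := FF.Glob.ffthmM G (S : Subgroup G) P₁ (MinSimple.EmptyTI.syl_of_le so.hP₁.le) so.hP₁.toIsMinPar
    (so.hP₁.isLoc.char2 S so.hc) ⟨_, so.WS.trans so.SP₁, (so.ka_one hk).off⟩
  have hno : ¬ Two (S : Subgroup G) P₁ := fun two => by
    have h5 := card_of_two so hk two
    omega
  rcases hff.2 with ⟨K, fK, fiK, cK, k, hk0, ⟨M⟩⟩ | ⟨k, m, hk0, hm, ⟨M⟩⟩
  · by_cases h4 : 4 ≤ Nat.card K
    · refine so.false_of_NT hk (nt so.hc so.hP₁ M h4 hff.1) ?_ w.hz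
      intro x hx hx1 y hy hy1
      exact w.tr x hx y hy hx1 hy1
    · have h3 : Nat.card K ≠ 3 := KeyRad.card_field_ne_three K
      have h2 : 1 < Nat.card K := Finite.one_lt_card
      have h5 : Nat.card K = 2 := by omega
      exact hno (PU.two_of_nat so.hc so.hP₁ (eq_zero_or_one h5) M)
  · exact hno (PU.two_of_sym so.hc so.hP₁ hm M)

end Cfsg.Agent.Omega.NO3S.SOne.PlugRad

end

section


/-!
# GammaFF, the field `rad`: (S1) is impossible
-/

set_option autoImplicit false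
set_option linter.unusedSectionVars false

namespace Cfsg.Agent.Omega.NO3S.SOne.GamRadPlug

open Subgroup Cfsg Cfsg.Agent.ZN Cfsg.Agent.Omega.MinPar
open Cfsg.Agent.Omega.NO3S.Level (W0 WSt X0)
open Cfsg.Agent.Omega.NO3S.GFF.S1 (Rad)

universe u

/-- **The field `rad` of the assembly.** -/
theorem gamRad (K : Frame.Cls.{u}) : GamRad K := fun _ _ _ _ S P F w h =>
  (PlugRad.rad_false (S := S) (P₁ := P) (F := F) { toW0 := w.toW0, rad := h } w).elim

end Cfsg.Agent.Omega.NO3S.SOne.GamRadPlug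

end
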